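import Groth.Agent.Dix.NormalLoc
import Groth.Agent.Ega1.GenPts
import Mathlib.AlgebraicGeometry.Geometrically.Integral
import Mathlib.AlgebraicGeometry.Geometrically.Connected

/-!
# Smooth geometrically connected morphisms are geometrically integral
-/

set_option autoImplicit false
universe u
open CategoryTheory CategoryTheory.Limits AlgebraicGeometry

namespace K247.SmoothGI

theorem isIntegral_of_smooth {K : Type u} [Field K] {X : Scheme.{u}} (f : X ⟶ Spec (CommRingCat.of K)) [Smooth f]
    [ConnectedSpace X] : AlgebraicGeometry.IsIntegral X := by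
  have h1 : IsLocallyNoetherian X := LocallyOfFiniteType.isLocallyNoetherian f
  exact (Groth.Agent.Ega1.GenPts.isIntegral_iff X).2
    ⟨inferInstance, fun x => (Groth.Agent.Dix.NormalLoc.stalk_of_smooth f x).1⟩

theorem geometricallyIntegral {X Y : Scheme.{u}} (f : X ⟶ Y) [Smooth f] [GeometricallyConnected f] :
    GeometricallyIntegral f := by
  have hP : ObjectProperty.IsClosedUnderIsomorphisms AlgebraicGeometry.IsIntegral.{u} :=
    ⟨fun {Z Z'} e h => by
      have : IsIntegral Z := h
      have : Nonempty Z' := ⟨e.hom (Classical.arbitrary Z)⟩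
      exact isIntegral_of_isOpenImmersion e.inv⟩
  refine ⟨?_⟩
  rw [geometrically_iff_of_isClosedUnderIsomorphisms]
  intro K _ t
  have h2 : ConnectedSpace ↥(pullback f t) :=
    pullback_of_geometrically GeometricallyConnected.geometrically_connectedSpace K _
  exact isIntegral_of_smooth (pullback.snd f t)

end K247.SmoothGI
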