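import Groth.Agent.Picfga.CurveRelDim
import Groth.Agent.UnramA.SmoothFibreDim
import Groth.Agent.PicF.K247.SmoothGI

/-!
# Relative dimension of a smooth morphism from the fibres

* `smoothOfRelDim`: a smooth morphism whose fibres are smooth of relative dimension `n` is smooth of relative
  dimension `n`.
* `curve`: smooth, geometrically connected, fibres of dimension one: smooth of relative dimension one.
-/

set_option autoImplicit false
universe u
open CategoryTheory CategoryTheory.Limits AlgebraicGeometry Opposite TopologicalSpace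

namespace K247.RelDim

open Groth.Agent

theorem smoothOfRelDim {X S : Scheme.{u}} (f : X ⟶ S) [Smooth f] (n : ℕ)
    (h : ∀ s : S, SmoothOfRelativeDimension n (f.fiberToSpecResidueField s)) :
    SmoothOfRelativeDimension n f := by
  refine ⟨fun x => ?_⟩
  obtain ⟨U, hU, V, hV, hx, e, hst⟩ := Smooth.exists_isStandardSmooth f x
  obtain ⟨m, hm⟩ := Picfga.CurveRelDim.exists_relativeDimension hst
  refine ⟨U, hU, V, hV, hx, e, ?_⟩
  suffices m = n by rwa [← this]
  let φ := f.appLE U V e
  have hg : Spec.map φ ≫ hU.fromSpec = hV.fromSpec ≫ f := IsAffineOpen.SpecMap_appLE_fromSpec f hU hV e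
  have h1 : SmoothOfRelativeDimension m (Spec.map φ) := by
    rw [HasRingHomProperty.Spec_iff (P := @SmoothOfRelativeDimension m)]
    exact RingHom.locally_of RingHom.isStandardSmoothOfRelativeDimension_respectsIso _ hm
  have h2 : SmoothOfRelativeDimension m (hV.fromSpec ≫ f) := by
    rw [← hg]
    exact (inferInstance : SmoothOfRelativeDimension (m + 0) (Spec.map φ ≫ hU.fromSpec))
  let s : S := f x
  obtain ⟨z, hz⟩ : ∃ z : f.fiber s, f.fiberι s z = x := by
    have h3 := f.range_fiberι s
    have h4 : x ∈ Set.range (f.fiberι s) := by rw [h3]; rfl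
    exact h4
  obtain ⟨w, hw⟩ : ∃ w : Spec Γ(X, V), hV.fromSpec w = x := by
    have h3 := hV.range_fromSpec
    have h4 : x ∈ Set.range hV.fromSpec := by rw [h3]; exact hx
    exact h4
  obtain ⟨a, -, -⟩ := Scheme.Pullback.exists_preimage_pullback w z (hw.trans hz.symm)
  have hpb : IsPullback (pullback.fst hV.fromSpec (f.fiberι s))
      (pullback.snd hV.fromSpec (f.fiberι s) ≫ f.fiberToSpecResidueField s) (hV.fromSpec ≫ f)
      (S.fromSpecResidueField s) :=
    (IsPullback.of_hasPullback hV.fromSpec (f.fiberι s)).paste_vert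
      (IsPullback.of_hasPullback f (S.fromSpecResidueField s))
  have hst' := smoothOfRelativeDimension_isStableUnderBaseChange.{u} m
  have h5 : SmoothOfRelativeDimension m
      (pullback.snd hV.fromSpec (f.fiberι s) ≫ f.fiberToSpecResidueField s) :=
    MorphismProperty.of_isPullback (P := @SmoothOfRelativeDimension.{u} m) hpb h2
  have h6 : SmoothOfRelativeDimension (0 + n)
      (pullback.snd hV.fromSpec (f.fiberι s) ≫ f.fiberToSpecResidueField s) := by
    have := h s
    infer_instance
  have e1 := @UnramA.SmoothFibreDim.localDim_eq (S.residueField s) _ m _ _ h5 a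
  have e2 := @UnramA.SmoothFibreDim.localDim_eq (S.residueField s) _ (0 + n) _ _ h6 a
  rw [e1] at e2
  have e3 : m = 0 + n := by exact_mod_cast e2
  omega

theorem curve {X S : Scheme.{u}} (f : X ⟶ S) [Smooth f] [GeometricallyConnected f]
    (hdim : ∀ s : S, topologicalKrullDim ↥(f.fiber s) = 1) : SmoothOfRelativeDimension 1 f := by
  refine smoothOfRelDim f 1 fun s => ?_
  have h1 : Smooth (f.fiberToSpecResidueField s) :=
    inferInstanceAs (Smooth (pullback.snd f (S.fromSpecResidueField s)))
  have h2 : ConnectedSpace (f.fiber s) :=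
    GeometricallyConnected.geometrically_connectedSpace (f := f) _ _ _ (.of_hasPullback _ _)
  have h3 : IsIntegral (f.fiber s) :=
    @K247.SmoothGI.isIntegral_of_smooth (S.residueField s) _ _ (f.fiberToSpecResidueField s) h1 h2
  exact @Picfga.CurveRelDim.smoothOfRelativeDimension_of_topologicalKrullDim_eq (S.residueField s) _ (f.fiber s)
    (f.fiberToSpecResidueField s) h1 h3 1 (by simpa using hdim s)

end K247.RelDim
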