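import Groth.Agent.PicF.K247.SmoothZero
import Groth.Agent.S3239
import Groth.Agent.S0223

/-!
# The dimension of `Pic⁰` of a smooth relative curve is the genus
-/

set_option autoImplicit false
universe u
open CategoryTheory CategoryTheory.Limits AlgebraicGeometry Opposite TopologicalSpace

namespace K247.JacDim

open Groth.Agent Groth.Agent.Grpsch Groth.Agent.Grpsch.PicGrp Groth.Agent.Fga.RigGrp Groth.Agent.Fga.JacSurj
  K247.DegFn K247.FibDeg K530.PicZero

/-- Over an algebraically closed field. -/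
theorem dim_of_algClosed {Ω : Type u} [Field Ω] [IsAlgClosed Ω] {C : Scheme.{u}}
    [C.Over (Spec (CommRingCat.of Ω))] (f : C ⟶ Spec (CommRingCat.of Ω)) (hf : C ↘ Spec (CommRingCat.of Ω) = f)
    [IsProper f] [Smooth f] [GeometricallyConnected f] [ConnectedSpace C]
    (hdim : ∀ s, topologicalKrullDim ↥(f.fiber s) = 1) (hC : topologicalKrullDim ↥C = 1)
    {P₀ : Over (Spec (CommRingCat.of Ω))} {φ₀ : ∀ T : Over _, PicF.Cl (PicF.XT f T) → (T ⟶ P₀)}
    (hP₀ : AbDual.IsRelPicZeroK Scheme.fppfPrecoverage f P₀ φ₀) [LocallyOfFinitePresentation P₀.hom] :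
    topologicalKrullDim ↥P₀.left = (Module.finrank Ω (Coh.HH C (Coh.structureModule C) 1) : WithBot ℕ∞) := by
  obtain ⟨σ, hσ⟩ := K247.AbelSurj.exists_point f
  have hgi : GeometricallyIrreducible f := K247.AbelSurj.geometricallyIrreducible f
  have hsm : Smooth P₀.hom := K247.SmoothZero.smooth hdim hP₀
  obtain ⟨c, hc, hc0, hcφ⟩ := K247.RigZero.exists_rig hdim σ hσ hP₀ P₀ (𝟙 P₀)
  have hfib : ∀ (T : Over (Spec (CommRingCat.of Ω))) (c : Pic (PicF.XT f T)),
      FGA.HasFibreDegreeZeroCl f T (toCl c) ↔ FibZero (PicF.XTproj f T) c := by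
    intro T c
    rw [Fga.JacFib.fibStep f T c, fibZero_iff f hdim]
    exact forall_congr' fun τ => sub_eq_zero.symm
  refine S3239.result Ω C f hC σ hσ hf P₀ (rigEquiv f σ hσ P₀ ⟨c, hc⟩) ((hfib P₀ c).2 hc0) ?_
  intro T c' hcT
  obtain ⟨⟨c', hc'⟩, rfl⟩ := (rigEquiv f σ hσ T).surjective c'
  have h0 : FibZero (PicF.XTproj f T) c' := (hfib T c').1 hcT
  have hcz : AbDual.IsPicZeroCl f P₀ (toCl c) := (isPicZeroCl_toCl_iff f _ _).2 hc0
  refine ⟨φ₀ T (toCl c'), ?_, fun g' hg' => ?_⟩
  · change PicF.pullCl (PicF.XTmap f (φ₀ T (toCl c'))) (toCl c) = toCl c'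
    rw [← toCl_pull]
    refine congrArg toCl (K247.RigZero.phi_injective σ hσ hP₀ T _ _ (pull_mem _ hc) hc'
      (hc0.pull _ _ (XTmap_XTproj f _)) h0 ?_)
    rw [toCl_pull, hP₀.natural _ _ _ _ hcz, hcφ, Category.comp_id]
  · change PicF.pullCl (PicF.XTmap f g') (toCl c) = toCl c' at hg'
    rw [← hg', hP₀.natural _ _ g' _ hcz, hcφ, Category.comp_id]

theorem dim_fiber_eq {C S : Scheme.{u}} (f : C ⟶ S)
    [IsProper f] [Smooth f] [GeometricallyConnected f]
    (hdim : ∀ s : S, topologicalKrullDim ↥(f.fiber s) = 1)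
    (P₀ : Over S) (φ₀ : ∀ T : Over S, PicF.Cl (PicF.XT f T) → (T ⟶ P₀))
    (hP₀ : AbDual.IsRelPicZeroK Scheme.fppfPrecoverage f P₀ φ₀) [LocallyOfFinitePresentation P₀.hom] (s : S) :
    topologicalKrullDim ↥(P₀.hom.fiber s) = (CohIII.fiberRank f (Coh.structureModule C) 1 s : WithBot ℕ∞) := by
  let K : Type u := S.residueField s
  let Ω : Type u := AlgebraicClosure K
  let e : Spec (CommRingCat.of Ω) ⟶ Spec (CommRingCat.of K) :=
    Spec.map (CommRingCat.ofHom (algebraMap K (AlgebraicClosure K)))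
  let t : Spec (CommRingCat.of Ω) ⟶ S := e ≫ S.fromSpecResidueField s
  have ht : t (IsLocalRing.closedPoint Ω) = s := S.fromSpecResidueField_apply s _
  -- the curve over `Ω`
  let X' := pullback f t
  let f' := pullback.snd f t
  have hd : topologicalKrullDim ↑(pullback f t) = 1 := by
    rw [Flat2G.ProperDim.topologicalKrullDim_field_point f (Field.toIsField Ω) (pullback.snd f t)
      (pullback.fst f t) t (IsPullback.of_hasPullback f t) (IsLocalRing.closedPoint Ω)]
    exact hdim _
  have hconn : ConnectedSpace ↑(pullback f t) :=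
    GeometricallyConnected.geometrically_connectedSpace (f := f) _ _ _ (.of_hasPullback _ _)
  have hdim' : ∀ s, topologicalKrullDim ↥(f'.fiber s) = 1 := fun s =>
    (Flat2G.ProperDim.topologicalKrullDim_fiber_baseChange f f' (pullback.fst f t) t
      (IsPullback.of_hasPullback f t) s).trans (hdim _)
  let _ : X'.Over (Spec (CommRingCat.of Ω)) := ⟨f'⟩
  have hlfp : LocallyOfFinitePresentation (K247.BC.bcP t P₀).hom :=
    inferInstanceAs (LocallyOfFinitePresentation (pullback.snd P₀.hom t))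
  have h1 := dim_of_algClosed f' rfl hdim' hd (K247.BC.isRelPicZeroK f t hP₀)
  have h2 := Flat2G.ProperDim.topologicalKrullDim_field_point P₀.hom (Field.toIsField Ω) (pullback.snd P₀.hom t)
      (pullback.fst P₀.hom t) t (IsPullback.of_hasPullback P₀.hom t) (IsLocalRing.closedPoint Ω)
  rw [ht] at h2
  rw [← h2]
  refine h1.trans ?_
  -- cohomology
  let _ : (f.fiber s).Over (Spec (CommRingCat.of K)) := ⟨f.fiberToSpecResidueField s⟩
  have hp : IsProper (f.fiber s ↘ Spec (CommRingCat.of K)) :=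
    inferInstanceAs (IsProper (pullback.snd f (S.fromSpecResidueField s)))
  let g : X' ⟶ f.fiber s := pullback.lift (pullback.fst f t) (f' ≫ e) (by
    rw [Category.assoc]; exact pullback.condition)
  have hg : IsPullback g (X' ↘ Spec (CommRingCat.of Ω)) (f.fiber s ↘ Spec (CommRingCat.of K)) e := by
    refine IsPullback.of_right (h₁₂ := f.fiberι s) (h₂₂ := S.fromSpecResidueField s) (v₁₃ := f) ?_
      (pullback.lift_snd _ _ _) (IsPullback.of_hasPullback f (S.fromSpecResidueField s))
    have h3 : g ≫ f.fiberι s = pullback.fst f t := pullback.lift_fst _ _ _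
    rw [h3]
    exact IsPullback.of_hasPullback f t
  have h3 := S0223.finrank_eq K (f.fiber s) Ω X' g hg 1
  have h4 : Module.finrank K (Coh.HH (f.fiber s) (Coh.structureModule (f.fiber s)) 1) =
      CohIII.fiberRank f (Coh.structureModule C) 1 s :=
    (CurvesA.HHMap.equivOver (X := f.fiber s) K (CurvesA.HHMap.pullbackUnit (f.fiberι s)) 1).finrank_eq.symm
  rw [h3, h4]

end K247.JacDim
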