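import Groth.Agent.Fga.RigGrp
import Groth.Agent.AbVar.K530.PicZero

/-!
# Base change of the relative Picard functor

If `(P, φ)` represents the `K`-sheafification of `T ↦ Pic(X ×_S T)` (or of its `Pic⁰` version) then `P ×_S S'`
represents the one of `X ×_S S'` over `S'`.
-/

set_option autoImplicit false
universe u
open CategoryTheory CategoryTheory.Limits AlgebraicGeometry Opposite TopologicalSpace

namespace K247.BC

open Groth.Agent Groth.Agent.Grpsch.PicGrp Groth.Agent.Fga.RigGrp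

variable {X S S' : Scheme.{u}} (f : X ⟶ S) (b : S' ⟶ S)

/-- An `S'`-scheme as an `S`-scheme. -/
abbrev dn (T : Over S') : Over S := Over.mk (T.hom ≫ b)

/-- Its action on morphisms. -/
abbrev dnHom {T T' : Over S'} (g : T' ⟶ T) : dn b T' ⟶ dn b T := Over.homMk g.left (by
  change g.left ≫ T.hom ≫ b = T'.hom ≫ b
  rw [← Category.assoc, Over.w g])

theorem dnHom_comp {T T' T'' : Over S'} (g : T' ⟶ T) (h : T'' ⟶ T') :
    dnHom b (h ≫ g) = dnHom b h ≫ dnHom b g := Over.OverMorphism.ext rfl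

/-- `(X ×_S S') ×_{S'} T = X ×_S T`. -/
noncomputable def cmp (T : Over S') : PicF.XT (pullback.snd f b) T ⟶ PicF.XT f (dn b T) :=
  (pullbackLeftPullbackSndIso f b T.hom).hom

instance (T : Over S') : IsIso (cmp f b T) := by unfold cmp; infer_instance

theorem cmp_fst (T : Over S') :
    cmp f b T ≫ pullback.fst f (dn b T).hom = pullback.fst (pullback.snd f b) T.hom ≫ pullback.fst f b :=
  pullbackLeftPullbackSndIso_hom_fst f b T.hom

theorem cmp_snd (T : Over S') : cmp f b T ≫ PicF.XTproj f (dn b T) = PicF.XTproj (pullback.snd f b) T :=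
  pullbackLeftPullbackSndIso_hom_snd f b T.hom

theorem cmp_natural {T T' : Over S'} (g : T' ⟶ T) :
    PicF.XTmap (pullback.snd f b) g ≫ cmp f b T = cmp f b T' ≫ PicF.XTmap f (dnHom b g) := by
  apply pullback.hom_ext
  · rw [Category.assoc, cmp_fst, XTmap_fst_assoc, Category.assoc, XTmap_fst, cmp_fst]
  · have h1 := cmp_snd f b T
    have h2 := cmp_snd f b T'
    change (PicF.XTmap (pullback.snd f b) g ≫ cmp f b T) ≫ PicF.XTproj f (dn b T) =
      (cmp f b T' ≫ PicF.XTmap f (dnHom b g)) ≫ PicF.XTproj f (dn b T)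
    rw [Category.assoc, h1, Category.assoc, XTmap_XTproj, XTmap_XTproj, ← Category.assoc, h2]
    rfl

/-- Transport of classes. -/
noncomputable def tr (T : Over S') (c : Pic (PicF.XT (pullback.snd f b) T)) : Pic (PicF.XT f (dn b T)) :=
  pull (inv (cmp f b T)) c

theorem pull_tr {T T' : Over S'} (g : T' ⟶ T) (c : Pic (PicF.XT (pullback.snd f b) T)) :
    tr f b T' (pull (PicF.XTmap (pullback.snd f b) g) c) = pull (PicF.XTmap f (dnHom b g)) (tr f b T c) := by
  unfold tr
  rw [← pull_comp, ← pull_comp]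
  congr 2
  rw [IsIso.inv_comp_eq, ← Category.assoc, ← cmp_natural, Category.assoc, IsIso.hom_inv_id, Category.comp_id]

theorem cmp_tr (T : Over S') (c : Pic (PicF.XT (pullback.snd f b) T)) :
    pull (cmp f b T) (tr f b T c) = c := by
  rw [tr, ← pull_comp, IsIso.hom_inv_id, pull_id]

theorem tr_cmp (T : Over S') (c : Pic (PicF.XT f (dn b T))) :
    tr f b T (pull (cmp f b T) c) = c := by
  rw [tr, ← pull_comp, IsIso.inv_hom_id, pull_id]

theorem tr_injective (T : Over S') : Function.Injective (tr f b T) :=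
  Function.LeftInverse.injective (cmp_tr f b T)

/-- The base change of `P`. -/
noncomputable abbrev bcP (P : Over S) : Over S' := Over.mk (pullback.snd P.hom b)

/-- The projection. -/
noncomputable abbrev pr (P : Over S) : dn b (bcP b P) ⟶ P := Over.homMk (pullback.fst P.hom b) pullback.condition

variable {P : Over S}

theorem hom_ext_bc {T : Over S'} {g g' : T ⟶ bcP b P} (h : dnHom b g ≫ pr b P = dnHom b g' ≫ pr b P) : g = g' := by
  apply Over.OverMorphism.ext
  apply pullback.hom_ext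
  · exact congrArg (fun k => k.left) h
  · exact (Over.w g).trans (Over.w g').symm

/-- The morphism to the base change. -/
noncomputable def lift {T : Over S'} (g : dn b T ⟶ P) : T ⟶ bcP b P :=
  Over.homMk (pullback.lift g.left T.hom (Over.w g)) (pullback.lift_snd _ _ _)

theorem lift_pr {T : Over S'} (g : dn b T ⟶ P) : dnHom b (lift b g) ≫ pr b P = g :=
  Over.OverMorphism.ext (pullback.lift_fst _ _ _)

/-- The maps `φ` of the base change. -/
noncomputable def bcφ (φ : ∀ T : Over S, PicF.Cl (PicF.XT f T) → (T ⟶ P)) (T : Over S')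
    (c : PicF.Cl (PicF.XT (pullback.snd f b) T)) : T ⟶ bcP b P :=
  lift b (φ (dn b T) (PicF.pullCl (inv (cmp f b T)) c))

theorem bcφ_toCl (φ : ∀ T : Over S, PicF.Cl (PicF.XT f T) → (T ⟶ P)) (T : Over S')
    (c : Pic (PicF.XT (pullback.snd f b) T)) : bcφ f b φ T (toCl c) = lift b (φ (dn b T) (toCl (tr f b T c))) := by
  rw [bcφ, tr, toCl_pull]

theorem bcφ_pr (φ : ∀ T : Over S, PicF.Cl (PicF.XT f T) → (T ⟶ P)) (T : Over S')
    (c : Pic (PicF.XT (pullback.snd f b) T)) :
    dnHom b (bcφ f b φ T (toCl c)) ≫ pr b P = φ (dn b T) (toCl (tr f b T c)) := by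
  rw [bcφ_toCl, lift_pr]

/-- A member of a covering of `T`, over `S'` or over `S`. -/
noncomputable abbrev asc (T : Over S') {U : Scheme.{u}} (u : U ⟶ T.left) :
    dn b (AbDual.ovr T u) ⟶ AbDual.ovr (dn b T) u :=
  Over.homMk (𝟙 U) (by
    change 𝟙 U ≫ u ≫ T.hom ≫ b = (u ≫ T.hom) ≫ b
    rw [Category.id_comp, Category.assoc])

theorem asc_ovrHom (T : Over S') {U : Scheme.{u}} (u : U ⟶ T.left) :
    asc b T u ≫ AbDual.ovrHom (dn b T) u = dnHom b (AbDual.ovrHom T u) :=
  Over.OverMorphism.ext (Category.id_comp _)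

/-- Base change of a relative Picard scheme. -/
theorem isRelPicK {K : Precoverage Scheme.{u}} {φ : ∀ T : Over S, PicF.Cl (PicF.XT f T) → (T ⟶ P)}
    (hP : AbDual.IsRelPicK K f P φ) :
    AbDual.IsRelPicK K (pullback.snd f b) (bcP b P) (bcφ f b φ) where
  natural T T' g c hc := by
    obtain ⟨c, rfl⟩ := exists_toCl hc
    apply hom_ext_bc
    rw [← toCl_pull, bcφ_pr, dnHom_comp, Category.assoc, bcφ_pr, pull_tr, toCl_pull,
      hP.natural _ _ _ _ (isInvertibleCl_toCl _)]
  locallySurjective T g := by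
    obtain ⟨R, hR, hloc⟩ := hP.locallySurjective (dn b T) (dnHom b g ≫ pr b P)
    refine ⟨R, hR, fun U u hu => ?_⟩
    obtain ⟨c, hc, h⟩ := hloc u hu
    obtain ⟨c, rfl⟩ := exists_toCl hc
    refine ⟨toCl (pull (cmp f b (AbDual.ovr T u)) (pull (PicF.XTmap f (asc b T u)) c)), isInvertibleCl_toCl _, ?_⟩
    apply hom_ext_bc
    rw [bcφ_pr, tr_cmp, toCl_pull, hP.natural _ _ _ _ (isInvertibleCl_toCl _), h, ← Category.assoc, asc_ovrHom,
      dnHom_comp, Category.assoc]
  locallyInjective T c c' hc hc' h := by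
    obtain ⟨c, rfl⟩ := exists_toCl hc
    obtain ⟨c', rfl⟩ := exists_toCl hc'
    have h1 : φ (dn b T) (toCl (tr f b T c)) = φ (dn b T) (toCl (tr f b T c')) := by
      rw [← bcφ_pr f b φ T c, ← bcφ_pr f b φ T c', h]
    obtain ⟨R, hR, hloc⟩ := hP.locallyInjective (dn b T) _ _ (isInvertibleCl_toCl _) (isInvertibleCl_toCl _) h1
    refine ⟨R, hR, fun U u hu => ?_⟩
    have h2 := hloc u hu
    rw [← toCl_pull, ← toCl_pull] at h2
    have h3 := toCl_injective h2
    rw [← toCl_pull, ← toCl_pull]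
    refine congrArg toCl (tr_injective f b _ ?_)
    rw [pull_tr, pull_tr, ← asc_ovrHom, XTmap_comp, pull_comp, pull_comp, h3]

theorem isPicZeroCl_tr_iff (T : Over S') (c : Pic (PicF.XT (pullback.snd f b) T)) :
    AbDual.IsPicZeroCl f (dn b T) (toCl (tr f b T c)) ↔ AbDual.IsPicZeroCl (pullback.snd f b) T (toCl c) := by
  rw [K530.PicZero.isPicZeroCl_toCl_iff, K530.PicZero.isPicZeroCl_toCl_iff]
  constructor
  · intro h
    have := h.pull (g' := PicF.XTproj (pullback.snd f b) T) (cmp f b T) (𝟙 T.left)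
      (by rw [cmp_snd]; exact (Category.comp_id _).symm)
    rwa [cmp_tr] at this
  · intro h
    exact h.pull (g' := PicF.XTproj f (dn b T)) (inv (cmp f b T)) (𝟙 T.left)
      (by rw [IsIso.inv_comp_eq, ← cmp_snd]; exact (congrArg _ (Category.comp_id _)).symm)

/-- Base change of a scheme representing `Pic⁰`. -/
theorem isRelPicZeroK {K : Precoverage Scheme.{u}} {φ : ∀ T : Over S, PicF.Cl (PicF.XT f T) → (T ⟶ P)}
    (hP : AbDual.IsRelPicZeroK K f P φ) :
    AbDual.IsRelPicZeroK K (pullback.snd f b) (bcP b P) (bcφ f b φ) where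
  natural T T' g c hc := by
    obtain ⟨c, rfl⟩ := K530.PicZero.exists_toCl_of_isPicZeroCl _ hc
    apply hom_ext_bc
    rw [← toCl_pull, bcφ_pr, dnHom_comp, Category.assoc, bcφ_pr, pull_tr, toCl_pull,
      hP.natural _ _ _ _ ((isPicZeroCl_tr_iff f b T c).2 hc)]
  locallySurjective T g := by
    obtain ⟨R, hR, hloc⟩ := hP.locallySurjective (dn b T) (dnHom b g ≫ pr b P)
    refine ⟨R, hR, fun U u hu => ?_⟩
    obtain ⟨c, hc, h⟩ := hloc u hu
    obtain ⟨c, rfl⟩ := K530.PicZero.exists_toCl_of_isPicZeroCl _ hc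
    refine ⟨toCl (pull (cmp f b (AbDual.ovr T u)) (pull (PicF.XTmap f (asc b T u)) c)), ?_, ?_⟩
    · rw [← isPicZeroCl_tr_iff, tr_cmp, toCl_pull]
      exact K530.PicZero.isPicZeroCl_pullCl f _ hc
    · apply hom_ext_bc
      rw [bcφ_pr, tr_cmp, toCl_pull, hP.natural _ _ _ _ hc, h, ← Category.assoc, asc_ovrHom,
        dnHom_comp, Category.assoc]
  locallyInjective T c c' hc hc' h := by
    obtain ⟨c, rfl⟩ := K530.PicZero.exists_toCl_of_isPicZeroCl _ hc
    obtain ⟨c', rfl⟩ := K530.PicZero.exists_toCl_of_isPicZeroCl _ hc'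
    have h1 : φ (dn b T) (toCl (tr f b T c)) = φ (dn b T) (toCl (tr f b T c')) := by
      rw [← bcφ_pr f b φ T c, ← bcφ_pr f b φ T c', h]
    obtain ⟨R, hR, hloc⟩ := hP.locallyInjective (dn b T) _ _ ((isPicZeroCl_tr_iff f b T c).2 hc)
      ((isPicZeroCl_tr_iff f b T c').2 hc') h1
    refine ⟨R, hR, fun U u hu => ?_⟩
    have h2 := hloc u hu
    rw [← toCl_pull, ← toCl_pull] at h2
    have h3 := toCl_injective h2
    rw [← toCl_pull, ← toCl_pull]
    refine congrArg toCl (tr_injective f b _ ?_)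
    rw [pull_tr, pull_tr, ← asc_ovrHom, XTmap_comp, pull_comp, pull_comp, h3]

end K247.BC
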