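import Groth.Agent.PicF.K247.PicZeroIso
import Groth.Agent.PicF.K247.BC
import Groth.Agent.PicF.K247.SmoothGI
import Groth.Agent.AbDual.K732.RigSheaf
import Groth.Agent.PicF.K245.GeomCR
import Groth.Agent.Picfga.PicBridge
import Groth.Agent.Fdesc.GeomAlgClosed
import Groth.Agent.S0348
import Mathlib.CategoryTheory.Monoidal.Cartesian.CommGrp_
import Mathlib.CategoryTheory.Monoidal.Cartesian.Over

/-!
# The group structure on a scheme representing `Pic⁰` (smooth proper morphism with a section)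

* `fibZero_of_cov`: being in `Pic⁰` is fppf-local on the base;
* `exists_rig`, `phi_injective`: points of `P₀` are rigidified `Pic⁰` classes;
* `exists_grp`: the group structure on `P₀`;
* `irreducibleSpace`: over an algebraically closed field `P₀` is irreducible.
-/

set_option autoImplicit false
universe u w
open CategoryTheory CategoryTheory.Limits AlgebraicGeometry Opposite TopologicalSpace

namespace K247.GrpZero

open Groth.Agent Groth.Agent.Grpsch Groth.Agent.Grpsch.PicGrp Groth.Agent.Fga.RigGrp K530.PicZero K732.Cov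
  Groth.Agent.Pic13.H138.AlgEquiv Groth.Agent.Pic13.H138.Slice

/-- A scheme of finite type over an algebraically closed field has a rational point. -/
theorem exists_point {k : Type u} [Field k] [IsAlgClosed k] {X : Scheme.{u}} (f : X ⟶ Spec (CommRingCat.of k))
    [LocallyOfFiniteType f] [Nonempty X] : ∃ σ : Spec (CommRingCat.of k) ⟶ X, σ ≫ f = 𝟙 _ := by
  have : JacobsonSpace X := LocallyOfFiniteType.jacobsonSpace f
  have h1 : closure ((Set.univ : Set X) ∩ closedPoints X) = Set.univ :=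
    JacobsonSpace.closure_inter_closedPoints isClosed_univ
  have h2 : (closedPoints X).Nonempty := by
    by_contra h
    rw [Set.not_nonempty_iff_eq_empty] at h
    rw [h, Set.inter_empty, closure_empty] at h1
    exact Set.empty_ne_univ h1
  obtain ⟨x, hx⟩ := h2
  exact ⟨pointOfClosedPoint f x hx, pointOfClosedPoint_comp f x hx⟩

/-- Classes from the base are in `Pic⁰`. -/
theorem fibZero_pull_base {Y T : Scheme.{u}} (g : Y ⟶ T) (n : Pic T) : FibZero g (pull g n) := by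
  intro Ω _ _ σ
  have h1 : pull (pullback.fst g σ) (pull g n) = 1 := by
    rw [← pull_comp, pullback.condition, pull_comp]
    have : pull σ n = 1 := pic_spec_local Ω _
    rw [this, map_one]
  rw [h1]
  exact one_mem _

section general

variable {X S : Scheme.{u}} (f : X ⟶ S)

/-- Being in `Pic⁰` is fppf-local on the base. -/
theorem fibZero_of_cov {T : Over S} (𝒰 : FCov T) (c : Pic (PicF.XT f T))
    (h : ∀ i, FibZero (PicF.XTproj f (𝒰.V i)) (pull (PicF.XTmap f (𝒰.j i)) c)) :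
    FibZero (PicF.XTproj f T) c := by
  intro Ω _ _ τ
  obtain ⟨i, v, hv⟩ := 𝒰.covers (τ (IsLocalRing.closedPoint Ω))
  obtain ⟨w, -, -⟩ := Scheme.Pullback.exists_preimage_pullback (f := τ) (g := (𝒰.j i).left)
    (IsLocalRing.closedPoint Ω) v hv.symm
  have hlft : LocallyOfFiniteType (pullback.fst τ (𝒰.j i).left) := inferInstance
  have hne : Nonempty ↑(pullback τ (𝒰.j i).left) := ⟨w⟩
  obtain ⟨ρ, hρ⟩ := exists_point (pullback.fst τ (𝒰.j i).left)
  let τ' : Spec (CommRingCat.of Ω) ⟶ (𝒰.V i).left := ρ ≫ pullback.snd τ (𝒰.j i).left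
  have hτ' : τ' ≫ (𝒰.j i).left = τ := by
    rw [Category.assoc, ← pullback.condition, reassoc_of% hρ]
  have hpb := Picfga.HilbPull.isPullback_XTmap f (𝒰.j i)
  let q₁ : pullback (PicF.XTproj f T) τ ⟶ PicF.XT f (𝒰.V i) :=
    hpb.lift (pullback.fst _ _) (pullback.snd _ _ ≫ τ') (by rw [Category.assoc, hτ', pullback.condition])
  have hq₁ : q₁ ≫ PicF.XTmap f (𝒰.j i) = pullback.fst _ _ := hpb.lift_fst _ _ _
  have hq₂ : q₁ ≫ PicF.XTproj f (𝒰.V i) = pullback.snd _ _ ≫ τ' := hpb.lift_snd _ _ _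
  let q : pullback (PicF.XTproj f T) τ ⟶ pullback (PicF.XTproj f (𝒰.V i)) τ' :=
    pullback.lift q₁ (pullback.snd _ _) hq₂
  have h1 := @pull_mem_alg0 Ω _ (pullback (PicF.XTproj f (𝒰.V i)) τ') (fibOver _ τ') _
    (pullback (PicF.XTproj f T) τ) (fibOver _ τ) q (pullback.lift_snd _ _ _) _ (h i Ω τ')
  rw [← pull_comp, pullback.lift_fst, ← pull_comp, hq₁] at h1
  exact h1

variable {f}

section rig

variable {P₀ : Over S} {φ₀ : ∀ T : Over S, PicF.Cl (PicF.XT f T) → (T ⟶ P₀)}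

/-- A class and its normalisation have the same image. -/
theorem phi_norm (σ : S ⟶ X) (hσ : σ ≫ f = 𝟙 S)
    (hP₀ : AbDual.IsRelPicZeroK Scheme.fppfPrecoverage f P₀ φ₀)
    (T : Over S) (c : Pic (PicF.XT f T)) (hc : FibZero (PicF.XTproj f T) c) :
    FibZero (PicF.XTproj f T) (norm f σ hσ T c) ∧ φ₀ T (toCl (norm f σ hσ T c)) = φ₀ T (toCl c) := by
  have h0 : FibZero (PicF.XTproj f T) (norm f σ hσ T c) := by
    rw [norm_apply, div_eq_mul_inv]
    exact FibZero.mul hc (FibZero.inv (fibZero_pull_base _ _))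
  refine ⟨h0, ?_⟩
  choose U hU hn using fun t ↦ Groth.Agent.Picfga.PicBridge.exists_open_pull_eq_one
    (pull (PicF.secT f σ hσ T) c) t
  refine (zar U hU).hom_ext fun i ↦ ?_
  have h1 : pull ((zar U hU).j i).left (pull (PicF.secT f σ hσ T) c) = 1 := hn i
  rw [← hP₀.natural _ _ ((zar U hU).j i) _ ((isPicZeroCl_toCl_iff f T _).2 h0),
    ← hP₀.natural _ _ ((zar U hU).j i) _ ((isPicZeroCl_toCl_iff f T _).2 hc),
    ← toCl_pull, ← toCl_pull, norm_apply, map_div,
    ← pull_comp (PicF.XTmap f _) (PicF.XTproj f T), XTmap_XTproj,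
    pull_comp, h1, map_one, div_one]

variable [IsProper f] [Smooth f] [GeometricallyConnected f] (σ : S ⟶ X) (hσ : σ ≫ f = 𝟙 S)
  (hP₀ : AbDual.IsRelPicZeroK Scheme.fppfPrecoverage f P₀ φ₀)

omit [IsProper f] in
theorem geometricallyReduced : GeometricallyReduced f := by
  have := K247.SmoothGI.geometricallyIntegral f
  infer_instance

theorem bij (T : Over S) (U : T.left.Opens) : Function.Bijective ((PicF.XTproj f T).app U) := by
  have h1 : Smooth (PicF.XTproj f T) := inferInstanceAs (Smooth (pullback.snd f T.hom))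
  have h2 : IsProper (PicF.XTproj f T) := inferInstanceAs (IsProper (pullback.snd f T.hom))
  have h3 : GeometricallyConnected (PicF.XTproj f T) :=
    inferInstanceAs (GeometricallyConnected (pullback.snd f T.hom))
  have h4 : GeometricallyReduced (PicF.XTproj f T) := geometricallyReduced (f := PicF.XTproj f T)
  have := K245.GeomCR.isIso_app (PicF.XTproj f T) U
  exact ConcreteCategory.bijective_of_isIso ((PicF.XTproj f T).app U)

include hP₀ in
theorem phi_injective (T : Over S) (c d : Pic (PicF.XT f T)) (hc : c ∈ Rg f σ hσ T) (hd : d ∈ Rg f σ hσ T)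
    (hc0 : FibZero (PicF.XTproj f T) c) (hd0 : FibZero (PicF.XTproj f T) d)
    (h : φ₀ T (toCl c) = φ₀ T (toCl d)) : c = d :=
  eq_of_phi_eq f (fun T U => bij T U) σ hσ hP₀ T c d hc hd ((isPicZeroCl_toCl_iff f T _).2 hc0)
    ((isPicZeroCl_toCl_iff f T _).2 hd0) h

include hP₀ in
/-- Every point of `P₀` comes from a rigidified `Pic⁰` class. -/
theorem exists_rig (T : Over S) (g : T ⟶ P₀) :
    ∃ c : Pic (PicF.XT f T), c ∈ Rg f σ hσ T ∧ FibZero (PicF.XTproj f T) c ∧ φ₀ T (toCl c) = g := by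
  have hF : ∀ T : Over S, Function.Bijective (PicF.XTproj f T).appTop := fun T ↦ bij T ⊤
  obtain ⟨𝒰, hU⟩ := K247.PicZeroIso.exists_cov_cl₀ hP₀ g
  choose c₀ hc₀ hcg₀ using hU
  choose d hd using fun i => exists_toCl_of_isPicZeroCl f (hc₀ i)
  have hd0 : ∀ i, FibZero (PicF.XTproj f (𝒰.V i)) (d i) := fun i => by
    rw [← isPicZeroCl_toCl_iff, hd i]; exact hc₀ i
  let c : ∀ i, Pic (PicF.XT f (𝒰.V i)) := fun i => norm f σ hσ _ (d i)
  have hc : ∀ i, c i ∈ Rg f σ hσ (𝒰.V i) := fun i => norm_mem _ _ _ _ _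
  have hc0 : ∀ i, FibZero (PicF.XTproj f (𝒰.V i)) (c i) := fun i => (phi_norm σ hσ hP₀ _ (d i) (hd0 i)).1
  have hcg : ∀ i, φ₀ _ (toCl (c i)) = 𝒰.j i ≫ g := fun i => by
    rw [(phi_norm σ hσ hP₀ _ (d i) (hd0 i)).2, hd i, hcg₀ i]
  obtain ⟨e, he, hec⟩ := K732.RigSheaf.rg_glue hσ hF 𝒰 c hc (fun i k W a b hab ↦ by
    have ha := (hc0 i).pull _ _ (XTmap_XTproj f a)
    have hb := (hc0 k).pull _ _ (XTmap_XTproj f b)
    refine phi_injective σ hσ hP₀ _ _ _ (pull_mem _ (hc i)) (pull_mem _ (hc k)) ha hb ?_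
    rw [toCl_pull, toCl_pull,
      hP₀.natural _ _ _ _ ((isPicZeroCl_toCl_iff f _ _).2 (hc0 i)),
      hP₀.natural _ _ _ _ ((isPicZeroCl_toCl_iff f _ _).2 (hc0 k)), hcg, hcg, reassoc_of% hab])
  have he0 : FibZero (PicF.XTproj f T) e := fibZero_of_cov f 𝒰 e fun i => by
    rw [hec]; exact hc0 i
  refine ⟨e, he, he0, 𝒰.hom_ext fun i ↦ ?_⟩
  rw [← hP₀.natural _ _ _ _ ((isPicZeroCl_toCl_iff f _ _).2 he0), ← toCl_pull, hec, hcg]

/-! ### The group structure -/

variable (f) in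
/-- Rigidified `Pic⁰` classes. -/
noncomputable def Rg0 (T : Over S) : Subgroup (Pic (PicF.XT f T)) where
  carrier := {c | c ∈ Rg f σ hσ T ∧ FibZero (PicF.XTproj f T) c}
  mul_mem' := fun ⟨ha, ha'⟩ ⟨hb, hb'⟩ => ⟨mul_mem ha hb, FibZero.mul ha' hb'⟩
  one_mem' := ⟨one_mem _, FibZero.one _⟩
  inv_mem' := fun ⟨ha, ha'⟩ => ⟨inv_mem ha, FibZero.inv ha'⟩

variable (f) in
/-- Pull back of rigidified `Pic⁰` classes. -/
noncomputable def rg0Map {T T' : Over S} (g : T' ⟶ T) : Rg0 f σ hσ T →* Rg0 f σ hσ T' where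
  toFun c := ⟨pull (PicF.XTmap f g) c.1, pull_mem g c.2.1, c.2.2.pull _ _ (XTmap_XTproj f g)⟩
  map_one' := Subtype.ext (map_one _)
  map_mul' _ _ := Subtype.ext (map_mul _ _ _)

variable (f) in
/-- The functor of rigidified `Pic⁰` classes. -/
noncomputable def rg0Functor : (Over S)ᵒᵖ ⥤ CommGrpCat.{u + 1} where
  obj T := CommGrpCat.of (Rg0 f σ hσ T.unop)
  map g := CommGrpCat.ofHom (rg0Map f σ hσ g.unop)
  map_id T := by
    ext c
    change pull (PicF.XTmap f (𝟙 T.unop)) c.1 = c.1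
    rw [XTmap_id, pull_id]
  map_comp g h := by
    ext c
    change pull (PicF.XTmap f (h.unop ≫ g.unop)) c.1 = pull _ (pull _ c.1)
    rw [XTmap_comp, pull_comp]

include hP₀ in
theorem phi_bijective (T : Over S) : Function.Bijective (fun c : Rg0 f σ hσ T => φ₀ T (toCl c.1)) :=
  ⟨fun c d h => Subtype.ext (phi_injective σ hσ hP₀ T c.1 d.1 c.2.1 d.2.1 c.2.2 d.2.2 h), fun g => by
    obtain ⟨c, h1, h2, h3⟩ := exists_rig σ hσ hP₀ T g
    exact ⟨⟨c, h1, h2⟩, h3⟩⟩

/-- `P₀` represents the functor of rigidified `Pic⁰` classes. -/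
noncomputable def repr : (rg0Functor f σ hσ ⋙ forget _).RepresentableBy P₀ where
  homEquiv {T} := (Equiv.ofBijective _ (phi_bijective σ hσ hP₀ T)).symm
  homEquiv_comp {T T'} g a := by
    refine (Equiv.symm_apply_eq _).2 ?_
    have h1 : φ₀ T' (toCl ((Equiv.ofBijective _ (phi_bijective σ hσ hP₀ T')).symm a).1) = a :=
      (Equiv.ofBijective _ (phi_bijective σ hσ hP₀ T')).apply_symm_apply a
    have h2 := hP₀.natural _ _ g _ ((isPicZeroCl_toCl_iff f _ _).2
      ((Equiv.ofBijective _ (phi_bijective σ hσ hP₀ T')).symm a).2.2)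
    rw [h1, ← toCl_pull] at h2
    exact h2.symm

theorem repr_symm (T : Over S) (c : Rg0 f σ hσ T) :
    (repr σ hσ hP₀).homEquiv.symm c = φ₀ T (toCl c.1) := rfl

open MonoidalCategory CartesianMonoidalCategory MonObj in
/-- A representing object of a functor of commutative groups is a commutative group object. -/
theorem exists_commGrpObj {C : Type*} [Category C] [CartesianMonoidalCategory C] [BraidedCategory C] (X : C)
    (F : Cᵒᵖ ⥤ CommGrpCat.{w}) (α : (F ⋙ forget _).RepresentableBy X) :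
    ∃ (_ : GrpObj X) (_ : IsCommMonObj X), ∀ (T : C) (a b : T ⟶ X),
      α.homEquiv (a * b) = (α.homEquiv a * α.homEquiv b : F.obj (op T)) := by
  let G : CommGrpObj X := CommGrpObj.ofRepresentableBy X F α
  let β : (((F ⋙ forget₂ CommGrpCat GrpCat) ⋙ forget₂ GrpCat MonCat) ⋙ forget _).RepresentableBy X := α
  refine ⟨G.toGrpObj, G.toIsCommMonObj, fun T a b => ?_⟩
  change β.homEquiv' (lift a b ≫ β.homEquiv'.symm (β.homEquiv' (fst X X) * β.homEquiv' (snd X X))) =
    β.homEquiv' a * β.homEquiv' b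
  simp only [β.homEquiv'_comp, Equiv.apply_symm_apply, map_mul]
  simp only [← β.homEquiv'_comp]
  simp

open MonObj in
include σ hσ hP₀ in
/-- The group structure on `P₀`: `φ₀` is multiplicative on `Pic⁰` classes. -/
theorem exists_grp : ∃ (_ : GrpObj P₀) (_ : IsCommMonObj P₀), ∀ (T : Over S) (c d : Pic (PicF.XT f T)),
    FibZero (PicF.XTproj f T) c → FibZero (PicF.XTproj f T) d →
      φ₀ T (toCl (c * d)) = φ₀ T (toCl c) * φ₀ T (toCl d) := by
  obtain ⟨h1, h2, h3⟩ := exists_commGrpObj P₀ (rg0Functor f σ hσ) (repr σ hσ hP₀)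
  refine ⟨h1, h2, fun T c d hc hd => ?_⟩
  rw [← (phi_norm σ hσ hP₀ T _ (FibZero.mul hc hd)).2, ← (phi_norm σ hσ hP₀ T c hc).2,
    ← (phi_norm σ hσ hP₀ T d hd).2, map_mul]
  let a : Rg0 f σ hσ T := ⟨norm f σ hσ T c, norm_mem _ _ _ _ _, (phi_norm σ hσ hP₀ T c hc).1⟩
  let b : Rg0 f σ hσ T := ⟨norm f σ hσ T d, norm_mem _ _ _ _ _, (phi_norm σ hσ hP₀ T d hd).1⟩
  have h4 := h3 T ((repr σ hσ hP₀).homEquiv.symm a) ((repr σ hσ hP₀).homEquiv.symm b)
  rw [Equiv.apply_symm_apply, Equiv.apply_symm_apply] at h4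
  exact ((repr σ hσ hP₀).homEquiv.symm_apply_eq.2 h4.symm)

end rig

end general

end K247.GrpZero
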