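import Groth.Agent.AbVar.K530.PicZero
import Groth.Agent.AbDual.K732.Cov

/-!
# Comparison of `Pic⁰` and `Pic`

Let `(P, φ)` represent `Pic_{X/S}` and `(P₀, φ₀)` represent `Pic⁰_{X/S}` (fppf sheafified), `j : P₀ ⟶ P` compatible with
`φ₀`, `φ`. Then `j` is a monomorphism, and if the `Pic⁰` classes are those whose point factors through a monomorphism
`ι : Q ⟶ P` then `P₀ ≅ Q`.
-/

set_option autoImplicit false
universe u
open CategoryTheory CategoryTheory.Limits AlgebraicGeometry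

namespace K247.PicZeroIso

open Groth.Agent K732.Cov

variable {X S : Scheme.{u}} {f : X ⟶ S}
  {P : Over S} {φ : ∀ T : Over S, PicF.Cl (PicF.XT f T) → (T ⟶ P)}
  {P₀ : Over S} {φ₀ : ∀ T : Over S, PicF.Cl (PicF.XT f T) → (T ⟶ P₀)}

theorem isInvertibleCl_of_isPicZeroCl {T : Over S} {c : PicF.Cl (PicF.XT f T)} (h : AbDual.IsPicZeroCl f T c) :
    PicF.IsInvertibleCl c := by
  obtain ⟨L, h1, h2, -⟩ := h
  exact ⟨L, h1, h2⟩

/-- Points of `P` are fppf-locally given by classes. -/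
theorem exists_cov_cl (hP : AbDual.IsRelPicK Scheme.fppfPrecoverage f P φ) {T : Over S} (g : T ⟶ P) :
    ∃ 𝒰 : FCov T, ∀ i, ∃ c : PicF.Cl (PicF.XT f (𝒰.V i)), PicF.IsInvertibleCl c ∧ φ (𝒰.V i) c = 𝒰.j i ≫ g := by
  obtain ⟨R, hR, h⟩ := hP.locallySurjective T g
  exact exists_cov hR (fun V v => ∃ c : PicF.Cl (PicF.XT f V), PicF.IsInvertibleCl c ∧ φ V c = v ≫ g)
    (fun U u hu => h u hu)

/-- Points of `P₀` are fppf-locally given by `Pic⁰` classes. -/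
theorem exists_cov_cl₀ (hP₀ : AbDual.IsRelPicZeroK Scheme.fppfPrecoverage f P₀ φ₀) {T : Over S} (g : T ⟶ P₀) :
    ∃ 𝒰 : FCov T, ∀ i, ∃ c : PicF.Cl (PicF.XT f (𝒰.V i)),
      AbDual.IsPicZeroCl f (𝒰.V i) c ∧ φ₀ (𝒰.V i) c = 𝒰.j i ≫ g := by
  obtain ⟨R, hR, h⟩ := hP₀.locallySurjective T g
  exact exists_cov hR (fun V v => ∃ c : PicF.Cl (PicF.XT f V), AbDual.IsPicZeroCl f V c ∧ φ₀ V c = v ≫ g)
    (fun U u hu => h u hu)

theorem exists_cov_eq (hP : AbDual.IsRelPicK Scheme.fppfPrecoverage f P φ) {T : Over S}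
    {c c' : PicF.Cl (PicF.XT f T)} (hc : PicF.IsInvertibleCl c) (hc' : PicF.IsInvertibleCl c')
    (h : φ T c = φ T c') :
    ∃ 𝒰 : FCov T, ∀ i, PicF.pullCl (PicF.XTmap f (𝒰.j i)) c = PicF.pullCl (PicF.XTmap f (𝒰.j i)) c' := by
  obtain ⟨R, hR, h⟩ := hP.locallyInjective T c c' hc hc' h
  exact exists_cov hR (fun V v => PicF.pullCl (PicF.XTmap f v) c = PicF.pullCl (PicF.XTmap f v) c')
    (fun U u hu => h u hu)

/-- `Pic⁰` classes with the same point in `P` have the same point in `P₀`. -/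
theorem phi_eq (hP : AbDual.IsRelPicK Scheme.fppfPrecoverage f P φ)
    (hP₀ : AbDual.IsRelPicZeroK Scheme.fppfPrecoverage f P₀ φ₀) {T : Over S}
    {c c' : PicF.Cl (PicF.XT f T)} (hc : AbDual.IsPicZeroCl f T c) (hc' : AbDual.IsPicZeroCl f T c')
    (h : φ T c = φ T c') : φ₀ T c = φ₀ T c' := by
  obtain ⟨𝒰, hU⟩ := exists_cov_eq hP (isInvertibleCl_of_isPicZeroCl hc) (isInvertibleCl_of_isPicZeroCl hc') h
  refine 𝒰.hom_ext fun i => ?_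
  rw [← hP₀.natural _ _ (𝒰.j i) c hc, ← hP₀.natural _ _ (𝒰.j i) c' hc', hU]

/-- `j : Pic⁰ ⟶ Pic` is a monomorphism. -/
theorem mono (hP : AbDual.IsRelPicK Scheme.fppfPrecoverage f P φ)
    (hP₀ : AbDual.IsRelPicZeroK Scheme.fppfPrecoverage f P₀ φ₀) (j : P₀ ⟶ P)
    (hj : ∀ (T : Over S) (c : PicF.Cl (PicF.XT f T)), AbDual.IsPicZeroCl f T c → φ₀ T c ≫ j = φ T c) :
    Mono j := by
  refine ⟨fun {T} a b hab => ?_⟩
  obtain ⟨𝒰, hU⟩ := exists_cov_cl₀ hP₀ a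
  refine 𝒰.hom_ext fun i => ?_
  obtain ⟨c, hc, hca⟩ := hU i
  obtain ⟨𝒱, hV⟩ := exists_cov_cl₀ hP₀ (𝒰.j i ≫ b)
  refine 𝒱.hom_ext fun k => ?_
  obtain ⟨c', hc', hcb⟩ := hV k
  have h0 := K530.PicZero.isPicZeroCl_pullCl f (𝒱.j k) hc
  rw [← hca, ← hcb, ← hP₀.natural _ _ (𝒱.j k) c hc]
  refine phi_eq hP hP₀ h0 hc' ?_
  rw [← hj _ _ h0, ← hj _ _ hc', hP₀.natural _ _ (𝒱.j k) c hc, hca, hcb]
  simp only [Category.assoc, hab]

/-- `P₀ ≅ Q` if `Q ⟶ P` is a monomorphism through which precisely the `Pic⁰` classes factor. -/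
theorem exists_iso (hP : AbDual.IsRelPicK Scheme.fppfPrecoverage f P φ)
    (hP₀ : AbDual.IsRelPicZeroK Scheme.fppfPrecoverage f P₀ φ₀) (j : P₀ ⟶ P)
    (hj : ∀ (T : Over S) (c : PicF.Cl (PicF.XT f T)), AbDual.IsPicZeroCl f T c → φ₀ T c ≫ j = φ T c)
    {Q : Over S} (ι : Q ⟶ P) (hι : Mono ι)
    (h : ∀ (T : Over S) (c : PicF.Cl (PicF.XT f T)), PicF.IsInvertibleCl c →
      (AbDual.IsPicZeroCl f T c ↔ ∃ g : T ⟶ Q, g ≫ ι = φ T c)) :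
    ∃ e : P₀ ≅ Q, e.hom ≫ ι = j := by
  have hjm := mono hP hP₀ j hj
  have h1 : ∃ k : P₀ ⟶ Q, k ≫ ι = j := by
    obtain ⟨𝒰, hU⟩ := exists_cov_cl₀ hP₀ (𝟙 P₀)
    choose c hc hcφ using hU
    choose g hg using fun i => (h _ (c i) (isInvertibleCl_of_isPicZeroCl (hc i))).1 (hc i)
    have h2 : ∀ i, g i ≫ ι = 𝒰.j i ≫ j := fun i => by
      rw [hg, ← hj _ _ (hc i), hcφ i, Category.comp_id]
    obtain ⟨k, hk⟩ := 𝒰.glue_hom g (fun i l W a b hab => by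
      rw [← cancel_mono ι, Category.assoc, Category.assoc, h2, h2, reassoc_of% hab])
    refine ⟨k, 𝒰.hom_ext fun i => ?_⟩
    rw [reassoc_of% (hk i), h2]
  have h1' : ∃ l : Q ⟶ P₀, l ≫ j = ι := by
    obtain ⟨𝒰, hU⟩ := exists_cov_cl hP ι
    choose c hc hcφ using hU
    have hz : ∀ i, AbDual.IsPicZeroCl f _ (c i) := fun i => (h _ (c i) (hc i)).2 ⟨𝒰.j i, (hcφ i).symm⟩
    have h2 : ∀ i, φ₀ _ (c i) ≫ j = 𝒰.j i ≫ ι := fun i => by rw [hj _ _ (hz i), hcφ i]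
    obtain ⟨k, hk⟩ := 𝒰.glue_hom (fun i => φ₀ _ (c i)) (fun i l W a b hab => by
      rw [← cancel_mono j, Category.assoc, Category.assoc, h2, h2, reassoc_of% hab])
    refine ⟨k, 𝒰.hom_ext fun i => ?_⟩
    rw [reassoc_of% (hk i), h2]
  obtain ⟨k, hk⟩ := h1
  obtain ⟨l, hl⟩ := h1'
  refine ⟨⟨k, l, ?_, ?_⟩, hk⟩
  · rw [← cancel_mono j, Category.assoc, hl, hk, Category.id_comp]
  · rw [← cancel_mono ι, Category.assoc, hk, hl, Category.id_comp]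

end K247.PicZeroIso
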