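import Groth.Agent.PicF.K247.AbelDeg
import Groth.Agent.PicF.K247.PicZeroIso
import Groth.Agent.S0086

/-!
# The scheme representing `Pic⁰` of a smooth relative curve is proper with geometrically connected fibres

`exists_surj`: if the curve has a section and the genus is at most `n`, the `n`-th fibre power of the curve surjects
onto `P₀`.
-/

set_option autoImplicit false
universe u
open CategoryTheory CategoryTheory.Limits AlgebraicGeometry Opposite TopologicalSpace

namespace K247.JacProper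

open Groth.Agent Groth.Agent.Grpsch Groth.Agent.Grpsch.PicGrp Groth.Agent.Fga.RigGrp Groth.Agent.Fga.JacSurj
  Groth.Agent.Picfga.ChiDef K247.DegFn K247.FibDeg Groth.Agent.Fga.JacSum K247.BC K247.GclBC K247.AbelSurj
  K530.PicZero K247.AbelDeg

variable {C S : Scheme.{u}} {f : C ⟶ S} [IsProper f] [Smooth f] [GeometricallyConnected f]
  {P₀ : Over S} {φ₀ : ∀ T : Over S, PicF.Cl (PicF.XT f T) → (T ⟶ P₀)}

/-- The Abel map from a power of the curve is surjective. -/
theorem exists_surj (hdim : ∀ s : S, topologicalKrullDim ↥(f.fiber s) = 1)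
    (σ : S ⟶ C) (hσ : σ ≫ f = 𝟙 S)
    (hP₀ : AbDual.IsRelPicZeroK Scheme.fppfPrecoverage f P₀ φ₀) (n : ℕ)
    (hn : ∀ (Ω : Type u) [Field Ω] [IsAlgClosed Ω] (t : Spec (CommRingCat.of Ω) ⟶ S), np (pullback.snd f t) ≤ n) :
    ∃ (Z : Over S) (a : Z ⟶ P₀), Surjective a.left ∧
      ∀ (W : MorphismProperty Scheme.{u}), W (𝟙 S) →
        (∀ (A : Scheme.{u}) (a : A ⟶ S), W a → W (pullback.fst a f ≫ a)) → W Z.hom := by
  have hrel : SmoothOfRelativeDimension 1 f := K247.RelDim.curve f hdim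
  obtain ⟨Z, cZ, -, hW, hex, hall⟩ := exists_sum f σ hσ n
  have hZ : AbDual.IsPicZeroCl f Z (toCl cZ) := by
    rw [isPicZeroCl_toCl_iff]
    obtain ⟨x, hx⟩ := hall Z (𝟙 Z)
    rw [XTmap_id, pull_id] at hx
    rw [hx]
    exact fibZero_prod_acl f hdim σ hσ x
  refine ⟨Z, φ₀ Z (toCl cZ), ⟨fun p => ?_⟩, hW⟩
  obtain ⟨𝒰, hU⟩ := PicZeroIso.exists_cov_cl₀ hP₀ (𝟙 P₀)
  obtain ⟨i, v, hv⟩ := 𝒰.covers p
  obtain ⟨c, hc, hcφ⟩ := hU i
  obtain ⟨Ω, _, _, y, hy⟩ := K247.AlgTriv.exists_geom v
  have hyv : ∀ z, y z = v := fun z => by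
    have : y z ∈ ({v} : Set (𝒰.V i).left) := by
      rw [← hy]; exact ⟨z, rfl⟩
    exact this
  let t : Spec (CommRingCat.of Ω) ⟶ S := y ≫ (𝒰.V i).hom
  let T : Over S := dn t (Over.mk (𝟙 (Spec (CommRingCat.of Ω))))
  let g : T ⟶ 𝒰.V i := Over.homMk y (Category.id_comp _).symm
  obtain ⟨c, rfl⟩ := exists_toCl_of_isPicZeroCl f hc
  have hc' := isPicZeroCl_pullCl f g hc
  rw [← toCl_pull, isPicZeroCl_toCl_iff] at hc'
  obtain ⟨x, hx⟩ := exists_prod_acl f hdim σ hσ t (pull (PicF.XTmap f g) c) hc' n (hn Ω t)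
  obtain ⟨h, hh⟩ := hex T x
  have h1 : h ≫ φ₀ Z (toCl cZ) = g ≫ 𝒰.j i := by
    rw [← hP₀.natural _ _ h _ hZ, ← toCl_pull, hh, ← hx, toCl_pull, hP₀.natural _ _ g _ hc, hcφ,
      Category.comp_id]
  let z : T.left := (IsLocalRing.closedPoint Ω : Spec (CommRingCat.of Ω))
  refine ⟨h.left z, ?_⟩
  have h2 : (h ≫ φ₀ Z (toCl cZ)).left z = (g ≫ 𝒰.j i).left z := by rw [h1]
  have h3 : (g ≫ 𝒰.j i).left z = p := by
    rw [← hv, ← hyv z]
    rfl
  exact h2.trans h3

/-- Properness in the presence of a section and a bound for the genus. -/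
theorem isProper_of_bound (hdim : ∀ s : S, topologicalKrullDim ↥(f.fiber s) = 1)
    (σ : S ⟶ C) (hσ : σ ≫ f = 𝟙 S)
    (hP₀ : AbDual.IsRelPicZeroK Scheme.fppfPrecoverage f P₀ φ₀) [IsSeparated P₀.hom] [LocallyOfFiniteType P₀.hom]
    (n : ℕ) (hn : ∀ s : S, (1 - chiAt f (Over.mk (𝟙 S)) s 1).toNat ≤ n) : IsProper P₀.hom := by
  obtain ⟨Z, a, ha, hW⟩ := exists_surj hdim σ hσ hP₀ n (fun Ω _ _ t => by
    rw [np_eq]
    exact hn _)
  have hZ : IsProper Z.hom := hW @IsProper inferInstance (fun A a ha => by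
    have : IsProper a := ha
    change IsProper (pullback.fst a f ≫ a)
    infer_instance)
  have h1 : UniversallyClosed (a.left ≫ P₀.hom) := by
    rw [Over.w a]
    infer_instance
  have h2 : UniversallyClosed P₀.hom := UniversallyClosed.of_comp_surjective a.left P₀.hom
  exact { }

omit [Smooth f] [GeometricallyConnected f] in
theorem dim_snd {S' : Scheme.{u}} (b : S' ⟶ S) (hdim : ∀ s : S, topologicalKrullDim ↥(f.fiber s) = 1) (s : S') :
    topologicalKrullDim ↥((pullback.snd f b).fiber s) = 1 :=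
  (Flat2G.ProperDim.topologicalKrullDim_fiber_baseChange f (pullback.snd f b) (pullback.fst f b) b
    (IsPullback.of_hasPullback f b) s).trans (hdim _)

omit [Smooth f] [GeometricallyConnected f] in
theorem chiAt_one_bc {S' : Scheme.{u}} (b : S' ⟶ S) (s : S') :
    chiAt (pullback.snd f b) (Over.mk (𝟙 S')) s 1 = chiAt f (Over.mk (𝟙 S)) (b s) 1 := by
  have h1 := chiK_one_eq_chiAt (pullback.snd f b) (fsr S' s) (IsLocalRing.closedPoint _)
  have h2 := chiK_one_eq_chiAt f (fsr S' s ≫ b) (IsLocalRing.closedPoint _)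
  rw [fsr_apply] at h1
  rw [Scheme.Hom.comp_apply, fsr_apply] at h2
  rw [← h1, ← h2]
  exact chiK_one_bc f b (fsr S' s)

/-- Properness in the presence of a section. -/
theorem isProper_of_section (hdim : ∀ s : S, topologicalKrullDim ↥(f.fiber s) = 1)
    (σ : S ⟶ C) (hσ : σ ≫ f = 𝟙 S)
    (hP₀ : AbDual.IsRelPicZeroK Scheme.fppfPrecoverage f P₀ φ₀) [IsSeparated P₀.hom] [LocallyOfFiniteType P₀.hom] :
    IsProper P₀.hom := by
  have hlc : IsLocallyConstant fun s : S => chiAt f (Over.mk (𝟙 S)) s 1 :=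
    isLocallyConstant_chiAt f hdim (Over.mk (𝟙 S)) 1
  let V : S → S.Opens := fun s => ⟨{s' | chiAt f (Over.mk (𝟙 S)) s' 1 = chiAt f (Over.mk (𝟙 S)) s 1},
    hlc.isOpen_fiber _⟩
  refine (IsZariskiLocalAtTarget.iff_of_iSup_eq_top (P := @IsProper) V
    (TopologicalSpace.Opens.ext (Set.eq_univ_of_forall fun s => by
      rw [TopologicalSpace.Opens.coe_iSup]
      exact Set.mem_iUnion.2 ⟨s, rfl⟩))).2 fun s => ?_
  let b := (V s).ι
  have h1 : IsProper (pullback.snd P₀.hom b) := by
    have h2 : IsSeparated (bcP b P₀).hom := inferInstanceAs (IsSeparated (pullback.snd P₀.hom b))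
    have h3 : LocallyOfFiniteType (bcP b P₀).hom := inferInstanceAs (LocallyOfFiniteType (pullback.snd P₀.hom b))
    refine isProper_of_bound (f := pullback.snd f b) (P₀ := bcP b P₀) (dim_snd b hdim)
      (pullback.lift (b ≫ σ) (𝟙 _) (by rw [Category.assoc, hσ, Category.comp_id, Category.id_comp]))
      (pullback.lift_snd _ _ _) (isRelPicZeroK f b hP₀)
      (1 - chiAt f (Over.mk (𝟙 S)) s 1).toNat (fun v => ?_)
    rw [chiAt_one_bc]
    have h4 : chiAt f (Over.mk (𝟙 S)) (b v) 1 = chiAt f (Over.mk (𝟙 S)) s 1 := v.2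
    rw [h4]
  change IsProper ((pullbackRestrictIsoRestrict P₀.hom (V s)).inv ≫ pullback.snd P₀.hom b)
  infer_instance

omit [IsProper f] [Smooth f] in
theorem surjective : Surjective f := by
  constructor
  intro y
  have h1 : ConnectedSpace (f.fiber y) :=
    GeometricallyConnected.geometrically_connectedSpace (f := f) _ _ _ (.of_hasPullback _ _)
  obtain ⟨z⟩ := (inferInstance : Nonempty (f.fiber y))
  exact ⟨f.fiberι y z, by
    have := Scheme.Hom.range_fiberι f y
    have h2 : f.fiberι y z ∈ Set.range (f.fiberι y) := ⟨z, rfl⟩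
    rw [this] at h2
    exact h2⟩

/-- The scheme representing `Pic⁰` is proper. -/
theorem isProper (hdim : ∀ s : S, topologicalKrullDim ↥(f.fiber s) = 1)
    (hP₀ : AbDual.IsRelPicZeroK Scheme.fppfPrecoverage f P₀ φ₀) [IsSeparated P₀.hom] [LocallyOfFiniteType P₀.hom] :
    IsProper P₀.hom := by
  have hs : Surjective f := surjective
  have h1 : IsProper (pullback.snd P₀.hom f) := by
    have h2 : IsSeparated (bcP f P₀).hom := inferInstanceAs (IsSeparated (pullback.snd P₀.hom f))
    have h3 : LocallyOfFiniteType (bcP f P₀).hom := inferInstanceAs (LocallyOfFiniteType (pullback.snd P₀.hom f))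
    exact isProper_of_section (f := pullback.snd f f) (P₀ := bcP f P₀) (dim_snd f hdim) (pullback.diagonal f)
      (pullback.diagonal_snd f) (isRelPicZeroK f f hP₀)
  have := S0086.result.{u}
  exact MorphismProperty.of_pullback_snd_of_descendsAlong (P := @IsProper)
    (Q := @Surjective ⊓ @Flat ⊓ @QuasiCompact) (f := P₀.hom) (g := f)
    ⟨⟨inferInstance, inferInstance⟩, inferInstance⟩ h1

theorem connectedSpace_of_algClosed {Ω : Type u} [Field Ω] [IsAlgClosed Ω] {C : Scheme.{u}}
    {f : C ⟶ Spec (CommRingCat.of Ω)} [IsProper f] [Smooth f] [GeometricallyConnected f]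
    {P₀ : Over (Spec (CommRingCat.of Ω))} {φ₀ : ∀ T : Over _, PicF.Cl (PicF.XT f T) → (T ⟶ P₀)}
    (hdim : ∀ s, topologicalKrullDim ↥(f.fiber s) = 1)
    (hP₀ : AbDual.IsRelPicZeroK Scheme.fppfPrecoverage f P₀ φ₀) : ConnectedSpace P₀.left := by
  have hconn : ConnectedSpace C := by
    have h1 := GeometricallyConnected.geometrically_connectedSpace (f := f)
    exact h1 (𝟙 _) (𝟙 C) f (IsPullback.of_horiz_isIso ⟨by simp⟩)
  obtain ⟨σ, hσ⟩ := exists_point f
  obtain ⟨Z, a, ha, hW⟩ := exists_surj hdim σ hσ hP₀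
    (1 - chiAt f (Over.mk (𝟙 _)) (IsLocalRing.closedPoint Ω) 1).toNat (fun Ω' _ _ t => by
      rw [np_eq]
      have : t (IsLocalRing.closedPoint Ω') = IsLocalRing.closedPoint Ω :=
        Subsingleton.elim (α := PrimeSpectrum Ω) _ _
      rw [this])
  have hgi : GeometricallyIrreducible f := AbelSurj.geometricallyIrreducible f
  have hZ2 : GeometricallyIrreducible Z.hom := by
    refine (hW (@GeometricallyIrreducible ⊓ @UniversallyOpen) ⟨?_, inferInstance⟩ (fun A a ha => ?_)).1
    · rw [geometricallyIrreducible_iff]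
      intro K _ y W fst snd hp
      have h1 : IsIso snd := MorphismProperty.of_isPullback
        (P := MorphismProperty.isomorphisms Scheme.{u}) hp (MorphismProperty.isomorphisms.infer_property _)
      have h2 : IrreducibleSpace (Spec (CommRingCat.of K)) := inferInstance
      exact snd.homeomorph.irreducibleSpace_iff.2 h2
    · obtain ⟨ha1, ha2⟩ := ha
      exact ⟨GeometricallyIrreducible.comp _ _, inferInstance⟩
  have hZ3 : IrreducibleSpace Z.left := by
    have : Subsingleton (Spec (CommRingCat.of Ω)) := inferInstanceAs (Subsingleton (PrimeSpectrum Ω))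
    exact GeometricallyIrreducible.irreducibleSpace_of_subsingleton Z.hom
  exact ha.surj.connectedSpace a.left.continuous

/-- The scheme representing `Pic⁰` has geometrically connected fibres. -/
theorem geometricallyConnected (hdim : ∀ s : S, topologicalKrullDim ↥(f.fiber s) = 1)
    (hP₀ : AbDual.IsRelPicZeroK Scheme.fppfPrecoverage f P₀ φ₀) : GeometricallyConnected P₀.hom := by
  refine ⟨fun K _ y W fst snd h => ?_⟩
  let Ω := AlgebraicClosure K
  let e : Spec (CommRingCat.of Ω) ⟶ Spec (CommRingCat.of K) :=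
    Spec.map (CommRingCat.ofHom (algebraMap K (AlgebraicClosure K)))
  let b := e ≫ y
  have h1 : ConnectedSpace (bcP b P₀).left :=
    connectedSpace_of_algClosed (f := pullback.snd f b) (P₀ := bcP b P₀) (dim_snd b hdim) (isRelPicZeroK f b hP₀)
  let q : pullback P₀.hom b ⟶ W := h.lift (pullback.fst P₀.hom b) (pullback.snd P₀.hom b ≫ e) (by
    rw [Category.assoc]; exact pullback.condition)
  have hq : IsPullback q (pullback.snd P₀.hom b) snd e := by
    refine IsPullback.of_right (h₁₂ := fst) (h₂₂ := y) (v₁₃ := P₀.hom) ?_ (h.lift_snd _ _ _) h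
    rw [h.lift_fst]
    exact IsPullback.of_hasPullback P₀.hom b
  have hqs : Surjective q :=
    MorphismProperty.of_isPullback (P := @Surjective) hq.flip ⟨fun z =>
      ⟨IsLocalRing.closedPoint Ω, Subsingleton.elim (α := PrimeSpectrum K) _ _⟩⟩
  have h2 : ConnectedSpace ↑(pullback P₀.hom b) := h1
  exact hqs.surj.connectedSpace q.continuous

end K247.JacProper
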