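import Groth.Agent.PicF.K247.FibDeg
import Groth.Agent.PicF.K247.PicZeroIso

/-!
# `Pic⁰` is open and closed in `Pic` for a smooth relative curve
-/

set_option autoImplicit false
universe u
open CategoryTheory CategoryTheory.Limits AlgebraicGeometry Opposite TopologicalSpace

namespace K247.OpenClosed

open Groth.Agent Groth.Agent.Grpsch Groth.Agent.Grpsch.PicGrp Groth.Agent.Fga.RigGrp K247.DegFn

variable {C S : Scheme.{u}} {f : C ⟶ S}
  {P : Over S} {φ : ∀ T : Over S, PicF.Cl (PicF.XT f T) → (T ⟶ P)}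
  {P₀ : Over S} {φ₀ : ∀ T : Over S, PicF.Cl (PicF.XT f T) → (T ⟶ P₀)}

theorem isClosedImmersion_of_clopen {X : Scheme.{u}} (U : X.Opens) (h : IsClosed (U : Set X)) :
    IsClosedImmersion U.ι :=
  IsClosedImmersion.of_isPreimmersion _ (by rwa [Scheme.Opens.range_ι])

/-- `P₀ ≅ d⁻¹(0)`. -/
theorem exists_iso_opens [IsProper f] [Smooth f] [GeometricallyConnected f]
    (hdim : ∀ s : S, topologicalKrullDim ↥(f.fiber s) = 1)
    (hP : AbDual.IsRelPicK Scheme.fppfPrecoverage f P φ)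
    (hP₀ : AbDual.IsRelPicZeroK Scheme.fppfPrecoverage f P₀ φ₀) (j : P₀ ⟶ P)
    (hj : ∀ (T : Over S) (c : PicF.Cl (PicF.XT f T)), AbDual.IsPicZeroCl f T c → φ₀ T c ≫ j = φ T c) :
    ∃ (U : P.left.Opens) (_ : IsClosed (U : Set P.left)) (e : P₀.left ≅ U), e.hom ≫ U.ι = j.left := by
  obtain ⟨d, hd, h⟩ := exists_degree hdim hP
  let U : P.left.Opens := ⟨d ⁻¹' {0}, hd.isOpen_fiber 0⟩
  have hU : IsClosed (U : Set P.left) := hd.isClosed_fiber 0
  let Q : Over S := Over.mk (U.ι ≫ P.hom)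
  let ι : Q ⟶ P := Over.homMk U.ι rfl
  have hι : Mono ι := by
    have : Mono ι.left := inferInstanceAs (Mono U.ι)
    exact Over.mono_of_mono_left ι
  obtain ⟨e, he⟩ := PicZeroIso.exists_iso hP hP₀ j hj ι hι (fun T c hc => by
    obtain ⟨c, rfl⟩ := exists_toCl hc
    rw [K530.PicZero.isPicZeroCl_toCl_iff, FibDeg.fibZero_iff f hdim T c]
    constructor
    · intro hc0
      have hr : Set.range (φ T (toCl c)).left ⊆ Set.range U.ι := by
        rw [Scheme.Opens.range_ι]
        rintro _ ⟨t, rfl⟩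
        exact (h T c t).trans (hc0 t)
      refine ⟨Over.homMk (IsOpenImmersion.lift U.ι (φ T (toCl c)).left hr) ?_, ?_⟩
      · change IsOpenImmersion.lift U.ι (φ T (toCl c)).left hr ≫ U.ι ≫ P.hom = T.hom
        rw [IsOpenImmersion.lift_fac_assoc, Over.w]
      · exact Over.OverMorphism.ext (IsOpenImmersion.lift_fac _ _ _)
    · rintro ⟨g, hg⟩ t
      rw [← h T c t, ← hg]
      exact (g.left t).2)
  refine ⟨U, hU, (Over.forget S).mapIso e, ?_⟩
  exact congrArg (fun k => k.left) he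

/-- `Pic⁰` is open and closed in `Pic`. -/
theorem open_closed [IsProper f] [Smooth f] [GeometricallyConnected f]
    (hdim : ∀ s : S, topologicalKrullDim ↥(f.fiber s) = 1)
    (hP : AbDual.IsRelPicK Scheme.fppfPrecoverage f P φ)
    (hP₀ : AbDual.IsRelPicZeroK Scheme.fppfPrecoverage f P₀ φ₀) (j : P₀ ⟶ P)
    (hj : ∀ (T : Over S) (c : PicF.Cl (PicF.XT f T)), AbDual.IsPicZeroCl f T c → φ₀ T c ≫ j = φ T c) :
    IsOpenImmersion j.left ∧ IsClosedImmersion j.left := by
  obtain ⟨U, hU, e, he⟩ := exists_iso_opens hdim hP hP₀ j hj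
  have h1 := isClosedImmersion_of_clopen U hU
  rw [← he]
  exact ⟨inferInstance, inferInstance⟩

end K247.OpenClosed
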