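import Groth.Agent.AbVar.K530.RigInj
import Groth.Agent.Fga.JacFib
import Groth.Agent.Grpsch.CubeClosed

/-!
# Separatedness of the relative Picard scheme

`TrivAt f T t c`: the class `c` on `X_T` is trivial on the fibre at `t`.  For `f` proper, flat, locally of finite
presentation with geometrically integral fibres this is a closed condition on `t`, and `t` satisfies it for `c₁ / c₂` if
and only if the two morphisms `T ⟶ P` given by `c₁`, `c₂` agree at `t`.
-/

set_option autoImplicit false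
universe u
open CategoryTheory CategoryTheory.Limits AlgebraicGeometry Opposite TopologicalSpace

namespace K247.SepPic

open Groth.Agent Groth.Agent.Grpsch Groth.Agent.Grpsch.PicGrp Groth.Agent.Fga.RigGrp Groth.Agent.Fga.JacSurj
  Groth.Agent.Fdesc.LocGen

variable {X S : Scheme.{u}} (f : X ⟶ S)

/-- The class `c` is trivial on the fibre at `t`. -/
def TrivAt (T : Over S) (t : T.left) (c : Pic (PicF.XT f T)) : Prop :=
  pull (PicF.XTmap f (ofHom T (fsr T.left t))) c = 1

theorem pull_iso_eq_one_iff {Y Z : Scheme.{u}} (j : Y ⟶ Z) [IsIso j] (c : Pic Z) : pull j c = 1 ↔ c = 1 := by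
  constructor
  · intro h
    have h1 : pull (inv j) (pull j c) = 1 := by rw [h, map_one]
    rw [← pull_comp, IsIso.inv_hom_id] at h1
    rwa [pull_id] at h1
  · rintro rfl
    rw [map_one]

theorem trivAt_iff_of_iso (T : Over S) (t : T.left) (c : Pic (PicF.XT f T)) {W : Scheme.{u}}
    (j : W ⟶ PicF.XT f (Over.mk (fsr T.left t ≫ T.hom))) [IsIso j] (q : W ⟶ PicF.XT f T)
    (h : j ≫ PicF.XTmap f (ofHom T (fsr T.left t)) = q) : TrivAt f T t c ↔ pull q c = 1 := by
  unfold TrivAt
  rw [← pull_iso_eq_one_iff j, ← pull_comp, h]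

theorem trivAt_iff (T : Over S) (t : T.left) {L : (PicF.XT f T).Modules} (hL : PicF.IsInvertible L) :
    TrivAt f T t (mk L hL) ↔ Nonempty ((Scheme.Modules.pullback ((PicF.XTproj f T).fiberι t)).obj L ≅
      Coh.structureModule ((PicF.XTproj f T).fiber t)) := by
  obtain ⟨j, hj1, hj2⟩ := Picfga.ChiBC.exists_fibreIso f T t
  refine (trivAt_iff_of_iso f T t (mk L hL) j.hom ((PicF.XTproj f T).fiberι t) hj1).trans ?_
  rw [pull_mk]
  exact mk_eq_one_iff (isInvertible_pullback _ hL)

theorem isClosed_trivAt [IsProper f] [Flat f] [LocallyOfFinitePresentation f] [GeometricallyIntegral f]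
    (T : Over S) (c : Pic (PicF.XT f T)) : IsClosed {t : T.left | TrivAt f T t c} := by
  obtain ⟨L, hL, rfl⟩ := exists_mk c
  have h1 : IsProper (PicF.XTproj f T) := inferInstanceAs (IsProper (pullback.snd f T.hom))
  have h2 : Flat (PicF.XTproj f T) := inferInstanceAs (Flat (pullback.snd f T.hom))
  have h3 : LocallyOfFinitePresentation (PicF.XTproj f T) :=
    inferInstanceAs (LocallyOfFinitePresentation (pullback.snd f T.hom))
  have h4 : GeometricallyIntegral (PicF.XTproj f T) :=
    inferInstanceAs (GeometricallyIntegral (pullback.snd f T.hom))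
  simp only [trivAt_iff]
  exact CubeClosed.isClosed_trivialLocus (PicF.XTproj f T) L hL

/-- A class that is trivial on `X_V` is trivial on the fibres of `X_T` at the image points of `V`. -/
theorem trivAt_of_pull [IsProper f] [Flat f] [LocallyOfFinitePresentation f] [GeometricallyIntegral f]
    {T V : Over S} (a : V ⟶ T) (v : V.left) (c : Pic (PicF.XT f T)) (h : pull (PicF.XTmap f a) c = 1) :
    TrivAt f T (a.left v) c := by
  set t : T.left := a.left v with ht
  obtain ⟨φ, hφ⟩ := exists_fsr (fsr V.left v ≫ a.left) t (by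
    rw [Scheme.Hom.comp_apply, fsr_apply])
  let F : Over S := Over.mk (fsr T.left t ≫ T.hom)
  have hF : Subsingleton F.left := inferInstanceAs (Subsingleton (PrimeSpectrum (T.left.residueField t)))
  let w : Spec (CommRingCat.of (V.left.residueField v)) ⟶ F.left := Spec.map φ
  let G : Over S := AbDual.ovr F w
  let b : G ⟶ V := Over.homMk (fsr V.left v) (by
    change fsr V.left v ≫ V.hom = Spec.map φ ≫ fsr T.left t ≫ T.hom
    rw [← Over.w a, reassoc_of% hφ])
  have hb : AbDual.ovrHom F w ≫ ofHom T (fsr T.left t) = b ≫ a := Over.OverMorphism.ext hφ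
  have h1 : pull (PicF.XTmap f (AbDual.ovrHom F w)) (pull (PicF.XTmap f (ofHom T (fsr T.left t))) c) = 1 := by
    rw [← pull_comp, ← XTmap_comp, hb, XTmap_comp, pull_comp, h, map_one]
  unfold TrivAt
  generalize pull (PicF.XTmap f (ofHom T (fsr T.left t))) c = e at h1 ⊢
  obtain ⟨L, hL, rfl⟩ := exists_mk e
  rw [pull_mk, mk_eq_one_iff] at h1
  obtain ⟨ψ⟩ := h1
  have hopen : IsOpenMap w := by
    intro U hU
    rcases Set.eq_empty_or_nonempty (w '' U) with h2 | ⟨z, hz⟩
    · rw [h2]; exact isOpen_empty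
    · have : w '' U = Set.univ := Set.eq_univ_of_forall fun y => by
        rwa [Subsingleton.elim y z]
      rw [this]; exact isOpen_univ
  have hflat : Flat w := by
    rw [Flat.SpecMap_iff]
    let _ : Algebra (T.left.residueField t) (V.left.residueField v) := φ.hom.toAlgebra
    exact (inferInstance : Module.Flat (T.left.residueField t) (V.left.residueField v))
  obtain ⟨W, m, hW, hm⟩ := Fga.EtTriv.exists_isGen_base (K530.RigInj.isPullback_XTmap f w) hopen L hL
      (Ega2.QCohLocal.isQCoh_of_isInvertible hL) (V₀ := ⊤) (ψ.inv.app _ (one _))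
      ((isGen_one _).app ψ.inv) (fun U => K530.RigInj.bij_of_isProper f G U) (IsLocalRing.closedPoint _) trivial
  have hW' : W = ⊤ := by
    ext y
    exact ⟨fun _ => trivial, fun _ => by rwa [Subsingleton.elim y (w (IsLocalRing.closedPoint _))]⟩
  subst hW'
  have hm' : IsGen (M := L) (U := ⊤) m := hm
  have hi : IsIso (homOf (M := L) m) := by
    rw [isIso_iff_isGen, sec_homOf, res_refl]
    exact hm'
  exact (mk_eq_one_iff hL).2 ⟨(asIso (homOf (M := L) m)).symm⟩

variable {f}

theorem isInvertibleCl_toCl {Y : Scheme.{u}} (c : Pic Y) : PicF.IsInvertibleCl (toCl c) := by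
  obtain ⟨L, hL, rfl⟩ := exists_mk c
  exact ⟨L, rfl, hL⟩

/-- The coincidence locus of the morphisms to `P` given by two classes on `X_T`. -/
theorem mem_range_iff [IsProper f] [Flat f] [LocallyOfFinitePresentation f] [GeometricallyIntegral f]
    {P : Over S} {φ : ∀ T : Over S, PicF.Cl (PicF.XT f T) → (T ⟶ P)}
    (hP : AbDual.IsRelPicK Scheme.fppfPrecoverage f P φ) {T : Over S} (c₁ c₂ : Pic (PicF.XT f T))
    (h : T.left ⟶ pullback P.hom P.hom) (h₁ : h ≫ pullback.fst P.hom P.hom = (φ T (toCl c₁)).left)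
    (h₂ : h ≫ pullback.snd P.hom P.hom = (φ T (toCl c₂)).left) (t : T.left) :
    h t ∈ Set.range (pullback.diagonal P.hom) ↔ TrivAt f T t (c₁ / c₂) := by
  constructor
  · intro ht
    rw [← Set.mem_preimage, ← Scheme.Pullback.range_fst] at ht
    obtain ⟨t', ht'⟩ := ht
    let T' : Over S := AbDual.ovr T (pullback.fst h (pullback.diagonal P.hom))
    let a : T' ⟶ T := AbDual.ovrHom T _
    have ha : a ≫ φ T (toCl c₁) = a ≫ φ T (toCl c₂) := by
      apply Over.OverMorphism.ext
      change pullback.fst h (pullback.diagonal P.hom) ≫ (φ T (toCl c₁)).left =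
        pullback.fst h (pullback.diagonal P.hom) ≫ (φ T (toCl c₂)).left
      rw [← h₁, ← h₂, pullback.condition_assoc, pullback.condition_assoc, pullback.diagonal_fst,
        pullback.diagonal_snd]
    have h3 : φ T' (toCl (pull (PicF.XTmap f a) c₁)) = φ T' (toCl (pull (PicF.XTmap f a) c₂)) := by
      rw [toCl_pull, toCl_pull, hP.natural _ _ _ _ (isInvertibleCl_toCl c₁),
        hP.natural _ _ _ _ (isInvertibleCl_toCl c₂), ha]
    obtain ⟨R, hR, hloc⟩ := hP.locallyInjective T' _ _ (isInvertibleCl_toCl _) (isInvertibleCl_toCl _) h3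
    obtain ⟨ι, U, v, rfl⟩ := R.exists_eq_ofArrows
    obtain ⟨hR1, -⟩ := (Scheme.ofArrows_mem_precoverage_iff _).1 hR
    obtain ⟨i, x, hx⟩ := hR1 t'
    have h4 := hloc (v i) ⟨i⟩
    rw [← toCl_pull, ← toCl_pull] at h4
    have h5 := toCl_injective h4
    have h6 := trivAt_of_pull f (AbDual.ovrHom T' (v i) ≫ a) x (c₁ / c₂) (by
      rw [XTmap_comp, pull_comp, map_div, map_div, h5, div_self'])
    have h7 : (AbDual.ovrHom T' (v i) ≫ a).left x = t := by
      change (pullback.fst h (pullback.diagonal P.hom)) ((v i) x) = t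
      rw [hx, ht']
    rwa [h7] at h6
  · intro ht
    unfold TrivAt at ht
    rw [map_div, div_eq_one] at ht
    have h3 : ofHom T (fsr T.left t) ≫ φ T (toCl c₁) = ofHom T (fsr T.left t) ≫ φ T (toCl c₂) := by
      rw [← hP.natural _ _ _ _ (isInvertibleCl_toCl c₁), ← hP.natural _ _ _ _ (isInvertibleCl_toCl c₂),
        ← toCl_pull, ← toCl_pull, ht]
    have h4 : fsr T.left t ≫ (φ T (toCl c₁)).left = fsr T.left t ≫ (φ T (toCl c₂)).left :=
      congrArg (fun g => g.left) h3
    have h5 : fsr T.left t ≫ h = (fsr T.left t ≫ (φ T (toCl c₁)).left) ≫ pullback.diagonal P.hom := by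
      apply pullback.hom_ext
      · rw [Category.assoc, Category.assoc, pullback.diagonal_fst, Category.comp_id, h₁]
      · rw [Category.assoc, Category.assoc, pullback.diagonal_snd, Category.comp_id, h₂, h4]
    let z : Spec (CommRingCat.of (T.left.residueField t)) := IsLocalRing.closedPoint _
    refine ⟨(fsr T.left t ≫ (φ T (toCl c₁)).left) z, ?_⟩
    rw [← Scheme.Hom.comp_apply, ← h5, Scheme.Hom.comp_apply, fsr_apply]

/-- Local surjectivity at a point, along a morphism. -/
theorem exists_chart {P : Over S} {φ : ∀ T : Over S, PicF.Cl (PicF.XT f T) → (T ⟶ P)}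
    (hP : AbDual.IsRelPicK Scheme.fppfPrecoverage f P φ) (T : Over S) (g : T ⟶ P) (t : T.left) :
    ∃ (U : Scheme.{u}) (u : U ⟶ T.left) (x : U) (c : Pic (PicF.XT f (AbDual.ovr T u))), Flat u ∧
      LocallyOfFinitePresentation u ∧ u x = t ∧ φ (AbDual.ovr T u) (toCl c) = AbDual.ovrHom T u ≫ g := by
  obtain ⟨R, hR, hloc⟩ := hP.locallySurjective T g
  obtain ⟨ι, U, v, rfl⟩ := R.exists_eq_ofArrows
  obtain ⟨hR1, hR2⟩ := (Scheme.ofArrows_mem_precoverage_iff _).1 hR
  obtain ⟨i, x, rfl⟩ := hR1 t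
  obtain ⟨_, ⟨L, rfl, hL⟩, h3⟩ := hloc (v i) ⟨i⟩
  exact ⟨_, v i, x, mk L hL, (hR2 i).1, (hR2 i).2, rfl, h3⟩

theorem isSeparated [IsProper f] [Flat f] [LocallyOfFinitePresentation f] [GeometricallyIntegral f]
    {P : Over S} {φ : ∀ T : Over S, PicF.Cl (PicF.XT f T) → (T ⟶ P)}
    (hP : AbDual.IsRelPicK Scheme.fppfPrecoverage f P φ) : IsSeparated P.hom := by
  refine ⟨IsClosedImmersion.of_isPreimmersion _ ?_⟩
  rw [← isOpen_compl_iff, isOpen_iff_mem_nhds]
  intro z hz
  let Q : Over S := Over.mk (pullback.fst P.hom P.hom ≫ P.hom)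
  let q₁ : Q ⟶ P := Over.homMk (pullback.fst P.hom P.hom) rfl
  let q₂ : Q ⟶ P := Over.homMk (pullback.snd P.hom P.hom) pullback.condition.symm
  obtain ⟨U, u, x, c, hu1, hu2, hux, hφ⟩ := exists_chart hP Q q₁ z
  obtain ⟨V, v, y, c', hv1, hv2, hvy, hφ'⟩ := exists_chart hP (AbDual.ovr Q u) (AbDual.ovrHom Q u ≫ q₂) x
  let W : Over S := AbDual.ovr (AbDual.ovr Q u) v
  have key := mem_range_iff hP (T := W) (pull (PicF.XTmap f (AbDual.ovrHom (AbDual.ovr Q u) v)) c) c' (v ≫ u)
    (by
      rw [toCl_pull, hP.natural _ _ _ _ (isInvertibleCl_toCl c), hφ]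
      exact Category.assoc _ _ _)
    (by
      rw [hφ']
      exact Category.assoc _ _ _)
  have hcl := isClosed_trivAt f W (pull (PicF.XTmap f (AbDual.ovrHom (AbDual.ovr Q u) v)) c / c')
  have hop : IsOpen ((v ≫ u) '' {w : V | TrivAt f W w
      (pull (PicF.XTmap f (AbDual.ovrHom (AbDual.ovr Q u) v)) c / c')}ᶜ) :=
    (v ≫ u).isOpenMap _ hcl.isOpen_compl
  refine Filter.mem_of_superset (hop.mem_nhds ⟨y, ?_, ?_⟩) ?_
  · intro hy
    exact hz (by
      have := (key y).2 hy
      rwa [Scheme.Hom.comp_apply, hvy, hux] at this)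
  · rw [Scheme.Hom.comp_apply, hvy, hux]
  · rintro _ ⟨w, hw, rfl⟩ hw'
    exact hw ((key w).1 hw')

end K247.SepPic
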