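import Groth.Agent.S12404
import Groth.Agent.S1488
import Groth.Agent.Sga7.H780.PicSm
import Groth.Agent.Flat2G.FibDimVanish
import Groth.Agent.Flat2G.ProperDim
import Groth.Agent.PicF.K247.BC

/-!
# Smoothness of the relative Picard scheme of a relative curve

* `exists_lift_class`: classes of invertible modules lift along first order thickenings of an affine base.
* `smooth_of_section`: `P` is smooth if `f` has a section and `O = f_* O` universally.
* `smooth_descend`: smoothness of `P` can be checked after base change along `f` itself.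
-/

set_option autoImplicit false
universe u
open CategoryTheory CategoryTheory.Limits AlgebraicGeometry Opposite TopologicalSpace

namespace K247.SmoothPic

open Groth.Agent Groth.Agent.Grpsch.PicGrp Groth.Agent.Fga.RigGrp

variable {X S : Scheme.{u}} {f : X ⟶ S}

/-- Lifting of classes along a first-order thickening of an affine base. -/
theorem exists_lift_class [IsProper f] (hdim : ∀ s : S, topologicalKrullDim ↥(f.fiber s) ≤ 1)
    {A A₀ : CommRingCat.{u}} (φ : A ⟶ A₀)
    (hφ : Function.Surjective φ.hom) (hφ2 : (Spec.map φ).ker ^ 2 = ⊥) (a : Spec A ⟶ S)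
    (i : Over.mk (Spec.map φ ≫ a) ⟶ Over.mk a) (hi : i.left = Spec.map φ)
    (c₀ : Pic (PicF.XT f (Over.mk (Spec.map φ ≫ a)))) :
    ∃ c : Pic (PicF.XT f (Over.mk a)), pull (PicF.XTmap f i) c = c₀ := by
  let ι := PicF.XTmap f i
  have hpb : IsPullback ι (PicF.XTproj f (Over.mk (Spec.map φ ≫ a))) (PicF.XTproj f (Over.mk a)) i.left :=
    Picfga.HilbPull.isPullback_XTmap f i
  have hcl : IsClosedImmersion i.left := by
    rw [hi]; exact IsClosedImmersion.spec_of_surjective φ hφ
  have hι : IsClosedImmersion ι := MorphismProperty.of_isPullback (P := @IsClosedImmersion) hpb.flip hcl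
  have hker : ι.ker ^ 2 = ⊥ := by
    have h1 : ι.ker = i.left.ker.comap (PicF.XTproj f (Over.mk a)) := by
      rw [← Scheme.IdealSheafData.ker_fst_of_isClosedImmersion, ← hpb.isoPullback_hom_fst,
        Scheme.Hom.ker_comp_of_isIso]
    rw [h1, ← Divis.IdealComap.comap_pow, hi, hφ2]
    exact (Scheme.IdealSheafData.map_gc _).l_bot
  have hprop : IsProper (PicF.XTproj f (Over.mk a)) := inferInstanceAs (IsProper (pullback.snd f a))
  have haff : IsAffine (Over.mk a).left := inferInstanceAs (IsAffine (Spec A))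
  have hd : ∀ t : Spec A, topologicalKrullDim ↥((PicF.XTproj f (Over.mk a)).fiber t) ≤ (1 : ℕ) := fun t =>
    (Flat2G.ProperDim.topologicalKrullDim_fiber_baseChange f (PicF.XTproj f (Over.mk a)) (pullback.fst f a) a
      (IsPullback.of_hasPullback f a) t).trans_le (hdim _)
  have h2 : Subsingleton (Coh.HH (PicF.XT f (Over.mk a)) (kernel (ClSub.unitToPush ι)) 2) := by
    refine Sga2.ThickCoh.subsingleton_HH_of_iso (Smoothlim.ConormalRes.idealModKerIso ι) 2 ?_
    exact Flat2G.FibDimVanish.subsingleton_HH (PicF.XTproj f (Over.mk a)) 1 hd _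
      (PerfA.IdealModule.isQCoh_idealMod _) 2 one_lt_two
  obtain ⟨L₀, hL₀, rfl⟩ := exists_mk c₀
  obtain ⟨L, hL, ⟨e⟩⟩ := Sga2.PicThick.lift_of_H2 ι hker h2 L₀ hL₀
  refine ⟨mk L hL, ?_⟩
  rw [pull_mk]
  exact mk_congr e

/-- Smoothness of the Picard scheme in the presence of a section. -/
theorem smooth_of_section [IsProper f] (hdim : ∀ s : S, topologicalKrullDim ↥(f.fiber s) ≤ 1)
    (σ : S ⟶ X) (hσ : σ ≫ f = 𝟙 S)
    (ha : ∀ (T : Over S) (U : T.left.Opens), IsIso ((PicF.XTproj f T).app U))
    {P : Over S} {φ : ∀ T : Over S, PicF.Cl (PicF.XT f T) → (T ⟶ P)}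
    (hP : AbDual.IsRelPicK Scheme.fppfPrecoverage f P φ) [LocallyOfFinitePresentation P.hom] :
    Smooth P.hom := by
  rw [S1488.result]
  refine ⟨inferInstance, ?_⟩
  intro A _ I hI w a haw
  let q : CommRingCat.of A ⟶ CommRingCat.of (A ⧸ I) := CommRingCat.ofHom (Ideal.Quotient.mk I)
  let i : Over.mk (Spec.map q ≫ a) ⟶ Over.mk a := Over.homMk (Spec.map q) rfl
  let w' : Over.mk (Spec.map q ≫ a) ⟶ P := Over.homMk w haw.symm
  obtain ⟨c₀, hc₀⟩ := (S12404.result f σ hσ ha P φ hP (Over.mk (Spec.map q ≫ a))).2 w'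
  obtain ⟨d₀, hd₀⟩ := exists_toCl c₀.2.1
  have hq2 : RingHom.ker q.hom ^ 2 = ⊥ := by
    have : RingHom.ker q.hom = I := Ideal.mk_ker
    rw [this, hI]
  obtain ⟨d, hd⟩ := exists_lift_class hdim q Ideal.Quotient.mk_surjective (Sga7.H780.PicSm.ker_sq q hq2) a i rfl d₀
  have h1 : i ≫ φ (Over.mk a) (toCl d) = w' := by
    rw [← hP.natural _ _ _ _ (isInvertibleCl_toCl _), ← toCl_pull, hd, hd₀]
    exact hc₀
  exact ⟨(φ (Over.mk a) (toCl d)).left, congrArg CommaMorphism.left h1, Over.w _⟩

/-- Smoothness may be checked after base change along a flat surjective morphism locally of finite presentation. -/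
theorem smooth_descend {P S S' : Scheme.{u}} (p : P ⟶ S) (b : S' ⟶ S) [Flat b] [Surjective b]
    [LocallyOfFinitePresentation b] (h : Smooth (pullback.snd p b)) : Smooth p :=
  MorphismProperty.of_pullback_snd_of_descendsAlong (P := @Smooth)
    (Q := @Surjective ⊓ @Flat ⊓ @LocallyOfFinitePresentation) (f := p) (g := b)
    ⟨⟨inferInstance, inferInstance⟩, inferInstance⟩ h

/-- Smoothness of the Picard scheme of a relative curve. -/
theorem smooth [IsProper f] [Flat f] [LocallyOfFinitePresentation f] [Surjective f]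
    (hdim : ∀ s : S, topologicalKrullDim ↥(f.fiber s) ≤ 1)
    (ha : ∀ (T : Over X) (U : T.left.Opens), IsIso ((PicF.XTproj (pullback.snd f f) T).app U))
    {P : Over S} {φ : ∀ T : Over S, PicF.Cl (PicF.XT f T) → (T ⟶ P)}
    (hP : AbDual.IsRelPicK Scheme.fppfPrecoverage f P φ) [LocallyOfFinitePresentation P.hom] :
    Smooth P.hom := by
  refine smooth_descend P.hom f ?_
  have h1 := K247.BC.isRelPicK f f hP
  have h2 : LocallyOfFinitePresentation (K247.BC.bcP f P).hom :=
    inferInstanceAs (LocallyOfFinitePresentation (pullback.snd P.hom f))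
  refine smooth_of_section (f := pullback.snd f f) (P := K247.BC.bcP f P) ?_ (pullback.diagonal f)
    (pullback.diagonal_snd f) ha h1
  intro s
  exact (Flat2G.ProperDim.topologicalKrullDim_fiber_baseChange f (pullback.snd f f) (pullback.fst f f) f
      (IsPullback.of_hasPullback f f) s).trans_le (hdim _)

end K247.SmoothPic
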