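import Groth.Agent.Fga.JacSum
import Groth.Agent.PicF.K247.BC

/-!
# Base change of the classes of points of a relative curve

For a base change `b : S' ⟶ S`: the class `O(-Γ_x)` of a point with values in an `S'`-scheme `T` is the one computed over
`S`.
-/

set_option autoImplicit false
universe u
open CategoryTheory CategoryTheory.Limits AlgebraicGeometry Opposite TopologicalSpace

namespace K247.GclBC

open Groth.Agent Groth.Agent.Grpsch.PicGrp Groth.Agent.Fga.RigGrp Groth.Agent.Fga.JacSum K247.BC
  Groth.Agent.Picfga.SecGraph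

variable {X S S' : Scheme.{u}} (f : X ⟶ S) (b : S' ⟶ S)

/-- A point over `S'` as a point over `S`. -/
noncomputable def dnPt {T : Over S'} (x : Pt (pullback.snd f b) T) : Pt f (dn b T) :=
  ⟨x.1 ≫ pullback.fst f b, by
    rw [Category.assoc, pullback.condition, ← Category.assoc, x.2]
    rfl⟩

/-- A point over `S` as a point over `S'`. -/
noncomputable def upPt {T : Over S'} (x : Pt f (dn b T)) : Pt (pullback.snd f b) T :=
  ⟨pullback.lift x.1 T.hom x.2, pullback.lift_snd _ _ _⟩

theorem dnPt_upPt {T : Over S'} (x : Pt f (dn b T)) : dnPt f b (upPt f b x) = x :=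
  Subtype.ext (pullback.lift_fst _ _ _)

theorem sec_cmp {T : Over S'} (x : Pt (pullback.snd f b) T) :
    sec (pullback.snd f b) T x.1 x.2 ≫ cmp f b T = sec f (dn b T) (dnPt f b x).1 (dnPt f b x).2 := by
  apply pullback.hom_ext
  · rw [Category.assoc, cmp_fst, sec_fst_assoc, sec_fst]
    rfl
  · have h := cmp_snd f b T
    change _ ≫ PicF.XTproj f (dn b T) = _ ≫ PicF.XTproj f (dn b T)
    rw [Category.assoc, h, sec_proj, sec_proj]
    rfl

theorem secGraph_comap [IsSeparated f] {T : Over S'} (x : Pt (pullback.snd f b) T) :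
    (HilbD.secGraph f (dn b T) (dnPt f b x).1 (dnPt f b x).2).comap (cmp f b T) =
      HilbD.secGraph (pullback.snd f b) T x.1 x.2 := by
  have hpb : IsPullback (𝟙 T.left) (sec (pullback.snd f b) T x.1 x.2)
      (sec f (dn b T) (dnPt f b x).1 (dnPt f b x).2) (cmp f b T) :=
    IsPullback.of_horiz_isIso ⟨by rw [sec_cmp]; exact Category.id_comp _⟩
  have : IsClosedImmersion (sec f (dn b T) (dnPt f b x).1 (dnPt f b x).2) := isClosedImmersion_sec f _ _
  exact (ker_eq_comap_of_isPullback hpb).symm

variable [SmoothOfRelativeDimension 1 f] [IsSeparated f]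

theorem pull_cmp_gcl [SmoothOfRelativeDimension 1 (pullback.snd f b)] {T : Over S'}
    (x : Pt (pullback.snd f b) T) :
    pull (cmp f b T) (gcl f (dnPt f b x)) = gcl (pullback.snd f b) x := by
  have h1 := secGraph_comap f b x
  rw [gcl, gcl, pull_mk, mk_eq_iff]
  have h2 := Dix.IdealModCartier.pullback_idealMod (cmp f b T) (isEff_secGraph f (dnPt f b x))
    (by rw [h1]; exact isEff_secGraph (pullback.snd f b) x)
  rwa [h1] at h2

theorem tr_gcl [SmoothOfRelativeDimension 1 (pullback.snd f b)] {T : Over S'}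
    (x : Pt (pullback.snd f b) T) :
    tr f b T (gcl (pullback.snd f b) x) = gcl f (dnPt f b x) := by
  rw [← pull_cmp_gcl, tr_cmp]

end K247.GclBC
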