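import Groth.Agent.Fdesc.LocGenAmple
import Mathlib.AlgebraicGeometry.FunctionField

/-!
# Sections of invertible modules on an integral scheme

* `eq_zero_of_res`: on an integral scheme a section of an invertible module which vanishes on a nonempty open is zero.
* `isIso_of_comp`: if `s : O ⟶ L` and `t : L ⟶ O` compose to an isomorphism and `L` is invertible, then `s` is one.
-/

set_option autoImplicit false
universe u

open CategoryTheory CategoryTheory.Limits AlgebraicGeometry Opposite TopologicalSpace
open Groth.Agent.Fdesc.LocGen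

namespace K247.SecIso

variable {X : Scheme.{u}}

/-- On an integral scheme restriction of functions to a nonempty open is injective. -/
lemma ores_injective [IsIntegral X] {U V : X.Opens} (h : V ≤ U) (hV : (V : Set X).Nonempty) :
    Function.Injective (ores (X := X) h) := by
  have : Nonempty (V : Scheme.{u}) := Set.nonempty_coe_sort.mpr hV
  exact map_injective_of_isIntegral X (homOfLE h)

/-- On an integral scheme restriction of sections of an invertible module to a nonempty open is injective. -/
lemma eq_zero_of_res [IsIntegral X] {L : X.Modules} (hL : PicF.IsInvertible L) {U V : X.Opens} (h : V ≤ U)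
    (hV : (V : Set X).Nonempty) (m : Γ(L, U)) (hm : res L h m = 0) : m = 0 := by
  rw [isInvertible_iff] at hL
  choose W e hxW he using hL
  refine res_ext L (fun x : U => U ⊓ W x.1) (fun x => inf_le_left) ?_ fun x => ?_
  · intro x hx
    exact Opens.mem_iSup.mpr ⟨⟨x, hx⟩, hx, hxW x⟩
  · rw [map_zero]
    obtain ⟨a, ha⟩ := ((he x.1).res (inf_le_right : U ⊓ W x.1 ≤ W x.1)).exists_eq (res L inf_le_left m)
    have hne : (((U ⊓ W x.1) ⊓ V : X.Opens) : Set X).Nonempty := by
      have h1 : (((U ⊓ W x.1 : X.Opens) : Set X) ∩ (V : Set X)).Nonempty :=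
        nonempty_preirreducible_inter (U ⊓ W x.1).isOpen V.isOpen ⟨x.1, x.2, hxW x.1⟩ hV
      exact h1
    have h2 : ores (inf_le_left : (U ⊓ W x.1) ⊓ V ≤ U ⊓ W x.1) a = 0 := by
      refine ((he x.1).res ((inf_le_left.trans inf_le_right : (U ⊓ W x.1) ⊓ V ≤ W x.1))).ext ?_
      have h3 := congr(res L (inf_le_left : (U ⊓ W x.1) ⊓ V ≤ U ⊓ W x.1) $ha)
      rw [res_smul, res_res, res_res] at h3
      rw [zero_smul]
      refine h3.symm.trans ?_
      rw [← res_res L h (inf_le_right : (U ⊓ W x.1) ⊓ V ≤ V), hm, map_zero]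
    have h4 : a = 0 := ores_injective _ hne (by rw [h2, map_zero])
    rw [ha, h4, zero_smul]

/-- A nonzero section of an invertible module on an integral scheme has nonzero value on every nonempty open. -/
lemma sec_ne_zero [IsIntegral X] {L : X.Modules} (hL : PicF.IsInvertible L) (s : Coh.structureModule X ⟶ L)
    (hs : s ≠ 0) (U : X.Opens) (hU : (U : Set X).Nonempty) : sec s U ≠ 0 := by
  intro h
  apply hs
  refine hom_ext_sec ?_
  have h1 : sec s ⊤ = 0 := eq_zero_of_res hL (le_top : U ≤ ⊤) hU _ (by rw [res_sec, h])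
  rw [h1]
  rfl

/-- A morphism out of an invertible module on an integral scheme into an invertible module which kills a local
generator is zero. -/
lemma app_gen_ne_zero [IsIntegral X] {L M : X.Modules} (hM : PicF.IsInvertible M) (t : L ⟶ M)
    (ht : t ≠ 0) {U : X.Opens} (hU : (U : Set X).Nonempty) {e : Γ(L, U)} (he : IsGen e) : t.app U e ≠ 0 := by
  intro h
  apply ht
  apply Scheme.Modules.hom_ext
  intro V
  ext m
  change t.app V m = 0
  by_cases hV : (V : Set X).Nonempty
  · have hne : ((U ⊓ V : X.Opens) : Set X).Nonempty := nonempty_preirreducible_inter U.isOpen V.isOpen hU hV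
    refine eq_zero_of_res hM (inf_le_right : U ⊓ V ≤ V) hne _ ?_
    rw [← app_res]
    obtain ⟨a, ha⟩ := (he.res (inf_le_left : U ⊓ V ≤ U)).exists_eq (res L inf_le_right m)
    rw [ha, Scheme.Modules.Hom.app_smul, app_res, h, map_zero, smul_zero]
  · have hVe : V = ⊥ := by
      ext x
      exact ⟨fun hx => (hV ⟨x, hx⟩).elim, fun hx => hx.elim⟩
    subst hVe
    exact res_ext M (fun x : Empty => ⊥) (fun x => x.elim) bot_le (fun x => x.elim)

/-- If `s ≫ t` is an isomorphism, `s : O ⟶ L`, `t : L ⟶ O` with `L` invertible then `s` is an isomorphism. -/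
lemma isIso_of_comp {L : X.Modules} (hL : PicF.IsInvertible L) (s : Coh.structureModule X ⟶ L)
    (t : L ⟶ Coh.structureModule X) (h : IsIso (s ≫ t)) : IsIso s := by
  rw [isIso_iff_isGen] at h ⊢
  rw [isGen_iff_forall_exists]
  intro x _
  obtain ⟨U, e, hxU, he⟩ := (isInvertible_iff L).mp hL x
  refine ⟨U, le_top, hxU, ?_⟩
  obtain ⟨a, ha⟩ := he.exists_eq (sec s U)
  rw [res_sec, ha]
  refine he.unit_smul ?_
  obtain ⟨b, hb⟩ := (ofFun (X := X) (U := U)).surjective (t.app U e)
  have h1 := h.res (le_top : U ≤ ⊤)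
  rw [res_sec, sec_comp, ha, Scheme.Modules.Hom.app_smul, ← hb, ofFun_eq_smul, smul_smul] at h1
  exact isUnit_of_mul_isUnit_left ((isGen_one U).isUnit_of_smul h1)

end K247.SecIso
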