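import Groth.Agent.Fga.JacRR
import Groth.Agent.Fga.JacFinal
import Groth.Agent.Fga.JacFib
import Groth.Agent.Fdesc.GeomAlgClosed
import Groth.Agent.Pic13.H138.AlgEquiv
import Groth.Agent.PicF.K247.SmoothGI

/-!
# Invertible modules of degree zero on a smooth proper connected curve over an algebraically closed field

`exists_points`: a class with the Euler characteristic of `O` is a product of classes `O(x) ⊗ O(σ)⁻¹`.
`mem_alg0`: it is algebraically equivalent to zero (through the Abel map on a power of the curve).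
-/

set_option autoImplicit false
universe u
open CategoryTheory CategoryTheory.Limits AlgebraicGeometry Opposite TopologicalSpace

namespace K247.AbelSurj

open Groth.Agent Groth.Agent.Grpsch.PicGrp Groth.Agent.Fga.RigGrp Groth.Agent.Fga.JacSum Groth.Agent.Fga.JacAlg
  Groth.Agent.Fga.JacSurj Groth.Agent.Picfga.ChiDef

/-- A scheme of finite type over an algebraically closed field has a rational point. -/
theorem exists_point {k : Type u} [Field k] [IsAlgClosed k] {X : Scheme.{u}} (f : X ⟶ Spec (CommRingCat.of k))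
    [LocallyOfFiniteType f] [Nonempty X] : ∃ σ : Spec (CommRingCat.of k) ⟶ X, σ ≫ f = 𝟙 _ := by
  have : JacobsonSpace X := LocallyOfFiniteType.jacobsonSpace f
  have h1 : closure ((Set.univ : Set X) ∩ closedPoints X) = Set.univ :=
    JacobsonSpace.closure_inter_closedPoints isClosed_univ
  have h2 : (closedPoints X).Nonempty := by
    by_contra h
    rw [Set.not_nonempty_iff_eq_empty] at h
    rw [h, Set.inter_empty, closure_empty] at h1
    exact Set.empty_ne_univ h1
  obtain ⟨x, hx⟩ := h2
  exact ⟨pointOfClosedPoint f x hx, pointOfClosedPoint_comp f x hx⟩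

section

variable {k : Type u} [Field k] [IsAlgClosed k] {C : Scheme.{u}} (f : C ⟶ Spec (CommRingCat.of k)) [IsProper f]
  [Smooth f] [ConnectedSpace C]

omit [IsProper f] in
theorem geometricallyIrreducible : GeometricallyIrreducible f := by
  have h1 : IsIntegral C := K247.SmoothGI.isIntegral_of_smooth f
  exact Fdesc.GeomAlgClosed.geometricallyIrreducible_of_irreducibleSpace f

/-- The number of points of the Abel map. -/
noncomputable def np : ℕ := (1 - chiK f (𝟙 (Spec (CommRingCat.of k))) 1).toNat

/-- A class with the Euler characteristic of `O` is a product of classes `O(x) ⊗ O(σ)⁻¹`. -/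
theorem exists_points (hdim : topologicalKrullDim ↥C = 1) (σ : Spec (CommRingCat.of k) ⟶ C)
    (hσ : σ ≫ f = 𝟙 (Spec (CommRingCat.of k))) (hsep : SmoothOfRelativeDimension 1 f)
    (c : Pic (PicF.XT f (Over.mk (𝟙 (Spec (CommRingCat.of k))))))
    (hc : chiK f (𝟙 _) c = chiK f (𝟙 _) 1) (n : ℕ) (hn : np f ≤ n) :
    ∃ x : Fin n → Pt f (Over.mk (𝟙 (Spec (CommRingCat.of k)))), c = ∏ i, acl f σ hσ (x i) := by
  have hgi := geometricallyIrreducible f
  have hX := Fga.JacFinal.isSmoothProperCurve k C f hdim
  have hRR := Fga.JacRR.rrStep f hX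
  obtain ⟨x, hx⟩ := Fga.JacAlg.exists_points hX (hRR k (𝟙 _))
    (Pt.ofSection hσ (Over.mk (𝟙 (Spec (CommRingCat.of k))))) c hc n (by
      have := Int.self_le_toNat (1 - chiK f (𝟙 (Spec (CommRingCat.of k))) 1)
      have h2 : ((np f : ℕ) : ℤ) ≤ n := by exact_mod_cast hn
      unfold np at h2
      omega)
  refine ⟨x, ?_⟩
  rw [hx]
  exact Finset.prod_congr rfl fun i _ => (acl_field f σ hσ k _ (x i)).symm

omit [IsAlgClosed k] [IsProper f] [Smooth f] [ConnectedSpace C] in
theorem chiK_pull_fst [QuasiCompact f] [QuasiSeparated f] {L : C.Modules} (hL : PicF.IsInvertible L) :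
    chiK f (𝟙 (Spec (CommRingCat.of k))) (pull (pullback.fst f (𝟙 (Spec (CommRingCat.of k)))) (mk L hL)) =
      @FGA.eulerCharLE k _ C ⟨f⟩ L 1 := by
  have h1 : CompactSpace C := QuasiCompact.compactSpace_of_compactSpace f
  have h2 : QuasiSeparatedSpace C := quasiSeparatedSpace_of_quasiSeparated f
  exact Picfga.ChiBC.eulerCharLE_iso k f (pullback.snd f (𝟙 _)) (asIso (pullback.fst f (𝟙 _)))
    (by simp [pullback.condition]) L (Ega2.QCohLocal.isQCoh_of_isInvertible hL) 1

end

section main

variable {k : Type u} [Field k] [IsAlgClosed k] {C : Scheme.{u}} [C.Over (Spec (CommRingCat.of k))]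
  [IsProper (C ↘ Spec (CommRingCat.of k))] [Smooth (C ↘ Spec (CommRingCat.of k))] [ConnectedSpace C]

open Groth.Agent.Pic13.H138.AlgEquiv Groth.Agent.Pic13.H138.Slice

theorem algEq (hdim : topologicalKrullDim ↥C = 1) {L : C.Modules} (hL : PicF.IsInvertible L)
    (h : Pic13.curveDeg k (C ↘ Spec (CommRingCat.of k)) L = 0) : AlgEq k C (mk L hL) 1 := by
  let f := C ↘ Spec (CommRingCat.of k)
  have hgi : GeometricallyIrreducible f := geometricallyIrreducible f
  have hX := Fga.JacFinal.isSmoothProperCurve k C f hdim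
  have hrel : SmoothOfRelativeDimension 1 f := Fga.JacAlg.smoothOfRelDim hX
  obtain ⟨σ, hσ⟩ := exists_point f
  let c : Pic (PicF.XT f (Over.mk (𝟙 (Spec (CommRingCat.of k))))) := pull (pullback.fst f (𝟙 _)) (mk L hL)
  have hc : chiK f (𝟙 _) c = chiK f (𝟙 _) 1 := by
    have h1 := chiK_pull_fst f hL
    have h2 := chiK_pull_fst f (Fdesc.LocGen.isInvertible_structureModule (X := C))
    have h3 : pull (pullback.fst f (𝟙 (Spec (CommRingCat.of k))))
        (mk (Coh.structureModule C) Fdesc.LocGen.isInvertible_structureModule) = 1 := map_one _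
    rw [h3] at h2
    refine h1.trans (Eq.trans ?_ h2.symm)
    exact sub_eq_zero.1 h
  obtain ⟨x, hx⟩ := exists_points f hdim σ hσ hrel c hc (np f) le_rfl
  obtain ⟨Z, cZ, -, hW, hex, -⟩ := exists_sum f σ hσ (np f)
  have hZ1 : IsProper Z.hom := hW @IsProper inferInstance (fun A a ha => by
      have : IsProper a := ha
      change IsProper (pullback.fst a f ≫ a)
      infer_instance)
  have hZ2 : GeometricallyIrreducible Z.hom := by
    refine (hW (@GeometricallyIrreducible ⊓ @UniversallyOpen) ⟨?_, inferInstance⟩ (fun A a ha => ?_)).1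
    · rw [geometricallyIrreducible_iff]
      intro K _ y W fst snd hp
      have h1 : IsIso snd := MorphismProperty.of_isPullback
        (P := MorphismProperty.isomorphisms Scheme.{u}) hp (MorphismProperty.isomorphisms.infer_property _)
      have h2 : IrreducibleSpace (Spec (CommRingCat.of K)) := inferInstance
      exact snd.homeomorph.irreducibleSpace_iff.2 h2
    · obtain ⟨ha1, ha2⟩ := ha
      exact ⟨GeometricallyIrreducible.comp _ _, inferInstance⟩
  have hZ3 : IrreducibleSpace Z.left := by
    have : Subsingleton (Spec (CommRingCat.of k)) := inferInstanceAs (Subsingleton (PrimeSpectrum k))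
    exact GeometricallyIrreducible.irreducibleSpace_of_subsingleton Z.hom
  obtain ⟨g, hg⟩ := hex (Over.mk (𝟙 _)) x
  obtain ⟨g₀, hg₀⟩ := hex (Over.mk (𝟙 _)) (fun _ => Pt.ofSection hσ (Over.mk (𝟙 _)))
  let e : C ⟶ PicF.XT f (Over.mk (𝟙 (Spec (CommRingCat.of k)))) := pullback.lift (𝟙 C) f (by simp)
  have he : e ≫ pullback.fst f (𝟙 _) = 𝟙 C := pullback.lift_fst _ _ _
  have key : ∀ (g : Over.mk (𝟙 (Spec (CommRingCat.of k))) ⟶ Z) (ht : g.left ≫ Z.hom = 𝟙 _),
      fibCl k C Z.hom g.left ht cZ = pull e (pull (PicF.XTmap f g) cZ) := by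
    intro g ht
    rw [← pull_comp]
    unfold fibCl
    congr 1
    congr 1
    apply pullback.hom_ext
    · rw [Category.assoc]
      refine (pullback.lift_fst _ _ _).trans ?_
      have : PicF.XTmap f g ≫ pullback.fst f Z.hom = pullback.fst f _ := Picfga.HilbPull.XTmap_fst f g
      rw [this]
      exact he.symm
    · rw [Category.assoc]
      refine (pullback.lift_snd _ _ _).trans ?_
      have : PicF.XTmap f g ≫ pullback.snd f Z.hom = pullback.snd f _ ≫ g.left := Picfga.HilbPull.XTmap_snd f g
      rw [this]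
      exact (pullback.lift_snd_assoc (𝟙 C) f (by simp) g.left).symm
  refine ⟨Z.left, Z.hom, inferInstance, inferInstance, inferInstance, cZ, g.left, g₀.left, Over.w g, Over.w g₀,
    ?_, ?_⟩
  · rw [key, hg, ← hx, ← pull_comp, he, pull_id]
  · rw [key, hg₀]
    have h1 : acl f σ hσ (Pt.ofSection hσ (Over.mk (𝟙 (Spec (CommRingCat.of k))))) = 1 := by
      rw [acl_field, inv_mul_cancel]
    rw [Finset.prod_congr rfl fun i _ => h1, Finset.prod_const_one, map_one]

end main

end K247.AbelSurj
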