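import Groth.Agent.Pic13.H167.ChiGeom
import Groth.Agent.Flat2G.ProperDim
import Groth.Agent.S4276
import Groth.Agent.Fdesc.StructMod
import Groth.Prelude.Def_AbDual

/-!
# Euler characteristics of modules algebraically equivalent to zero on a geometric fibre
-/

set_option autoImplicit false
universe u
open CategoryTheory CategoryTheory.Limits AlgebraicGeometry Opposite TopologicalSpace

namespace K247.AlgTriv

open Groth.Agent Groth.Agent.Grpsch Groth.Agent.Fdesc.LocGen

/-- A geometric point at `b`. -/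
theorem exists_geom {B : Scheme.{u}} (b : B) : ∃ (Ω : Type u) (_ : Field Ω) (_ : IsAlgClosed Ω)
    (σ : Spec (CommRingCat.of Ω) ⟶ B), Set.range σ.base = {b} := by
  refine ⟨AlgebraicClosure (B.residueField b), inferInstance, inferInstance,
    Spec.map (CommRingCat.ofHom (algebraMap (B.residueField b) (AlgebraicClosure (B.residueField b)))) ≫
      B.fromSpecResidueField b, ?_⟩
  ext y
  constructor
  · rintro ⟨x, rfl⟩
    exact B.fromSpecResidueField_apply b _
  · rintro rfl
    exact ⟨IsLocalRing.closedPoint _, B.fromSpecResidueField_apply y _⟩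

theorem eulerChar_eq_structure {Z B : Scheme.{u}} (p : Z ⟶ B) [IsProper p] (b : B)
    (hdim : topologicalKrullDim ↥(p.fiber b) ≤ 1) {L : Z.Modules} (hL : PicF.IsInvertible L)
    (h0 : AbDual.IsAlgTrivialAt p L b) :
    PerfAux.eulerChar p L b = PerfAux.eulerChar p (Coh.structureModule Z) b := by
  obtain ⟨Ω, _, _, σ, hσ⟩ := exists_geom b
  have hb : σ (IsLocalRing.closedPoint Ω) = b := by
    have : σ (IsLocalRing.closedPoint Ω) ∈ ({b} : Set B) := by
      rw [← hσ]; exact ⟨_, rfl⟩
    exact this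
  have hd : topologicalKrullDim ↑(pullback p σ) ≤ (1 : ℕ) := by
    rw [Flat2G.ProperDim.topologicalKrullDim_field_point p (Field.toIsField Ω) (pullback.snd p σ)
      (pullback.fst p σ) σ (IsPullback.of_hasPullback p σ) (IsLocalRing.closedPoint Ω), hb]
    exact hdim
  have hA := h0 Ω σ hσ
  have hL' : PicF.IsInvertible ((Scheme.Modules.pullback (pullback.fst p σ)).obj L) :=
    isInvertible_pullback _ hL
  let _ : (pullback p σ).Over (Spec (CommRingCat.of Ω)) := ⟨pullback.snd p σ⟩
  have hprop : IsProper ((pullback p σ) ↘ Spec (CommRingCat.of Ω)) :=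
    inferInstanceAs (IsProper (pullback.snd p σ))
  have h1 := S4276.chi_pow_of_isAlgEquivZero Ω (pullback p σ) 1 hd _ hA
    (Coh.structureModule (pullback p σ)) (Fdesc.StructMod.isCoh_structureModule _) 1
  have h2 := Pic13.H167.ChiGeom.eulerChar_eq_geom p L (Ega2.QCohLocal.isQCoh_of_isInvertible hL) σ 1 hd
  have h3 := Pic13.H167.ChiGeom.eulerChar_eq_geom p (Coh.structureModule Z)
    (Ega2.QCohLocal.isQCoh_of_isInvertible isInvertible_structureModule) σ 1 hd
  rw [hb] at h2 h3
  rw [h2, h3]
  refine Eq.trans ?_ (h1.trans ?_)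
  · exact Fga.EulerIso.eulerCharLE_congr Ω ((Ega2.Tens.lunit _).symm ≪≫ (Ega2.Tens.lunit _).symm) 1
  · exact (Fga.EulerIso.eulerCharLE_congr (X := pullback p σ) Ω (@asIso _ _ _ _ _
      (Grpsch.PicGrp.isIso_pullOne (pullback.fst p σ))) 1)

end K247.AlgTriv
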