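import Groth.Agent.PicF.K247.GrpZero
import Groth.Agent.PicF.K247.AlgTriv

/-!
# Quasi-compactness of the scheme representing `Pic⁰` of a smooth proper morphism

Over an algebraically closed field `P₀` is connected, hence irreducible (it is a group scheme).  Over an affine base `S`
finitely many affine flat charts `V_a ⟶ P₀` cover the zero section, and the products `V_a ×_S V_b ⟶ P₀` are jointly
surjective.
-/

set_option autoImplicit false
universe u
open CategoryTheory CategoryTheory.Limits AlgebraicGeometry Opposite TopologicalSpace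

namespace K247.QcZero

open Groth.Agent Groth.Agent.Grpsch Groth.Agent.Grpsch.PicGrp Groth.Agent.Fga.RigGrp K530.PicZero K732.Cov
  Groth.Agent.Pic13.H138.AlgEquiv Groth.Agent.Pic13.H138.Slice K247.GrpZero K247.BC

section field

variable {Ω : Type u} [Field Ω] [IsAlgClosed Ω] {X : Scheme.{u}} {f : X ⟶ Spec (CommRingCat.of Ω)}

/-- The slice `X ⟶ X ×_Ω T` at an `Ω`-point of `T`. -/
noncomputable def sl {k : Type u} [Field k] {X : Scheme.{u}} (f : X ⟶ Spec (CommRingCat.of k)) {T : Scheme.{u}}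
    (q : T ⟶ Spec (CommRingCat.of k)) (t : Spec (CommRingCat.of k) ⟶ T) (ht : t ≫ q = 𝟙 _) :
    X ⟶ PicF.XT f (Over.mk q) :=
  pullback.lift (𝟙 X) (f ≫ t) (by
    change 𝟙 X ≫ f = (f ≫ t) ≫ q
    rw [Category.assoc, ht, Category.id_comp, Category.comp_id])

theorem sl_fst {k : Type u} [Field k] {X : Scheme.{u}} (f : X ⟶ Spec (CommRingCat.of k)) {T : Scheme.{u}}
    (q : T ⟶ Spec (CommRingCat.of k)) (t : Spec (CommRingCat.of k) ⟶ T) (ht : t ≫ q = 𝟙 _) :
    sl f q t ht ≫ pullback.fst f (Over.mk q).hom = 𝟙 X := pullback.lift_fst _ _ _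

theorem sl_proj {k : Type u} [Field k] {X : Scheme.{u}} (f : X ⟶ Spec (CommRingCat.of k)) {T : Scheme.{u}}
    (q : T ⟶ Spec (CommRingCat.of k)) (t : Spec (CommRingCat.of k) ⟶ T) (ht : t ≫ q = 𝟙 _) :
    sl f q t ht ≫ PicF.XTproj f (Over.mk q) = f ≫ t := pullback.lift_snd _ _ _

/-- Two morphisms to `X_T` agree if their components agree. -/
theorem XT_hom_ext {S X W : Scheme.{u}} (f : X ⟶ S) (T : Over S) {a b : W ⟶ PicF.XT f T}
    (h₁ : a ≫ pullback.fst f T.hom = b ≫ pullback.fst f T.hom)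
    (h₂ : a ≫ PicF.XTproj f T = b ≫ PicF.XTproj f T) : a = b := pullback.hom_ext h₁ h₂

theorem mem_alg0_iff' (f : X ⟶ Spec (CommRingCat.of Ω)) (c : Pic X) : c ∈ @alg0 Ω _ X ⟨f⟩ _ ↔
    ∃ (T : Scheme.{u}) (q : T ⟶ Spec (CommRingCat.of Ω)), ConnectedSpace T ∧ LocallyOfFiniteType q ∧
      QuasiCompact q ∧ ∃ (M : Pic (PicF.XT f (Over.mk q))) (t t₀ : Spec (CommRingCat.of Ω) ⟶ T)
        (ht : t ≫ q = 𝟙 _) (ht₀ : t₀ ≫ q = 𝟙 _), pull (sl f q t ht) M = c ∧ pull (sl f q t₀ ht₀) M = 1 :=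
  Iff.rfl

/-- A family over a connected scheme of finite type, trivial at one point, is in `Pic⁰`. -/
theorem fibZero_of_connected {T : Scheme.{u}} (p : T ⟶ Spec (CommRingCat.of Ω)) [ConnectedSpace T]
    [LocallyOfFiniteType p] [QuasiCompact p] (t₀ : Spec (CommRingCat.of Ω) ⟶ T) (ht₀ : t₀ ≫ p = 𝟙 _)
    (M : Pic (PicF.XT f (Over.mk p))) (h : pull (sl f p t₀ ht₀) M = 1) :
    FibZero (PicF.XTproj f (Over.mk p)) M := by
  intro Ω' _ _ τ
  let Y : Scheme.{u} := pullback (PicF.XTproj f (Over.mk p)) τ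
  let sY : Y ⟶ Spec (CommRingCat.of Ω') := pullback.snd (PicF.XTproj f (Over.mk p)) τ
  let e : Spec (CommRingCat.of Ω') ⟶ Spec (CommRingCat.of Ω) := τ ≫ p
  let T' : Scheme.{u} := pullback p e
  let q : T' ⟶ Spec (CommRingCat.of Ω') := pullback.snd p e
  have hgc : GeometricallyConnected p := Fdesc.GeomAlgClosed.geometricallyConnected_of_connectedSpace p
  have hT' : ConnectedSpace T' :=
    GeometricallyConnected.geometrically_connectedSpace (f := p) _ _ _ (.of_hasPullback _ _)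
  -- the projection `Y ⟶ X`
  let y : Y ⟶ X := pullback.fst (PicF.XTproj f (Over.mk p)) τ ≫ pullback.fst f (Over.mk p).hom
  have hy : y ≫ f = sY ≫ e := by
    have h1 : pullback.fst f (Over.mk p).hom ≫ f = PicF.XTproj f (Over.mk p) ≫ p := pullback.condition
    have h2 : pullback.fst (PicF.XTproj f (Over.mk p)) τ ≫ PicF.XTproj f (Over.mk p) = sY ≫ τ :=
      pullback.condition
    rw [Category.assoc, h1, ← Category.assoc, h2, Category.assoc]
  let m : PicF.XT sY (Over.mk q) ⟶ PicF.XT f (Over.mk p) :=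
    pullback.lift (pullback.fst sY (Over.mk q).hom ≫ y) (PicF.XTproj sY (Over.mk q) ≫ pullback.fst p e) (by
      have h1 : pullback.fst sY (Over.mk q).hom ≫ sY = PicF.XTproj sY (Over.mk q) ≫ q := pullback.condition
      have h2 : pullback.fst p e ≫ p = q ≫ e := pullback.condition
      rw [Category.assoc, hy, ← Category.assoc, h1, Category.assoc, Category.assoc]
      exact congrArg _ h2.symm)
  have hm₁ : m ≫ pullback.fst f (Over.mk p).hom = pullback.fst sY (Over.mk q).hom ≫ y :=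
    pullback.lift_fst _ _ _
  have hm₂ : m ≫ PicF.XTproj f (Over.mk p) = PicF.XTproj sY (Over.mk q) ≫ pullback.fst p e :=
    pullback.lift_snd _ _ _
  let τ' : Spec (CommRingCat.of Ω') ⟶ T' := pullback.lift τ (𝟙 _) (Category.id_comp _).symm
  let σ' : Spec (CommRingCat.of Ω') ⟶ T' := pullback.lift (e ≫ t₀) (𝟙 _) (by
    rw [Category.assoc, ht₀, Category.comp_id, Category.id_comp])
  have hτ' : τ' ≫ q = 𝟙 _ := pullback.lift_snd _ _ _
  have hσ' : σ' ≫ q = 𝟙 _ := pullback.lift_snd _ _ _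
  have hτ1 : τ' ≫ pullback.fst p e = τ := pullback.lift_fst _ _ _
  have hσ1 : σ' ≫ pullback.fst p e = e ≫ t₀ := pullback.lift_fst _ _ _
  have h3 : sl sY q τ' hτ' ≫ m = pullback.fst (PicF.XTproj f (Over.mk p)) τ := by
    apply XT_hom_ext
    · rw [Category.assoc, hm₁, ← Category.assoc, sl_fst, Category.id_comp]
    · rw [Category.assoc, hm₂, ← Category.assoc, sl_proj, Category.assoc, hτ1]
      exact pullback.condition.symm
  have h4 : sl sY q σ' hσ' ≫ m = y ≫ sl f p t₀ ht₀ := by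
    apply XT_hom_ext
    · rw [Category.assoc, hm₁, ← Category.assoc, sl_fst, Category.id_comp, Category.assoc, sl_fst,
        Category.comp_id]
    · rw [Category.assoc, hm₂, ← Category.assoc, sl_proj, Category.assoc, hσ1, Category.assoc y, sl_proj,
        ← Category.assoc y, hy]
      simp only [e, Category.assoc]
  refine (mem_alg0_iff' sY _).2 ⟨T', q, hT', inferInstance, inferInstance, pull m M, τ', σ', hτ', hσ', ?_, ?_⟩
  · rw [← pull_comp, h3]
  · rw [← pull_comp, h4, pull_comp, h, map_one]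

variable {J : Over (Spec (CommRingCat.of Ω))} {φ : ∀ T : Over _, PicF.Cl (PicF.XT f T) → (T ⟶ J)}

omit [IsAlgClosed Ω] in
theorem sl_eq {T : Scheme.{u}} (q : T ⟶ Spec (CommRingCat.of Ω)) (s : Spec (CommRingCat.of Ω) ⟶ T)
    (hs : s ≫ q = 𝟙 _) : sl f q s hs =
      sl f (𝟙 _) (𝟙 _) (Category.id_comp _) ≫
        PicF.XTmap f (Over.homMk s hs : Over.mk (𝟙 (Spec (CommRingCat.of Ω))) ⟶ Over.mk q) := by
  apply XT_hom_ext
  · have h1 := Picfga.HilbPull.XTmap_fst f
      (Over.homMk s hs : Over.mk (𝟙 (Spec (CommRingCat.of Ω))) ⟶ Over.mk q)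
    rw [Category.assoc, h1, sl_fst, sl_fst]
  · have h1 := XTmap_XTproj f (Over.homMk s hs : Over.mk (𝟙 (Spec (CommRingCat.of Ω))) ⟶ Over.mk q)
    rw [Category.assoc, h1, sl_proj, ← Category.assoc, sl_proj, Category.comp_id]
    rfl

instance isIso_sl : IsIso (sl f (𝟙 _) (𝟙 _) (Category.id_comp _)) := by
  have h1 : IsIso (pullback.fst f (Over.mk (𝟙 (Spec (CommRingCat.of Ω)))).hom) :=
    inferInstanceAs (IsIso (pullback.fst f (𝟙 (Spec (CommRingCat.of Ω)))))
  exact IsIso.of_isIso_fac_right (sl_fst f (𝟙 _) (𝟙 _) (Category.id_comp _))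

/-- `P₀` over an algebraically closed field is connected. -/
theorem connectedSpace [IsProper f] [Smooth f] [GeometricallyConnected f] (σ : Spec (CommRingCat.of Ω) ⟶ X)
    (hσ : σ ≫ f = 𝟙 _) (hJ : AbDual.IsRelPicZeroK Scheme.fppfPrecoverage f J φ) [LocallyOfFiniteType J.hom] :
    ConnectedSpace J.left := by
  let I : Over (Spec (CommRingCat.of Ω)) := Over.mk (𝟙 _)
  let pt : Spec (CommRingCat.of Ω) := IsLocalRing.closedPoint Ω
  let e : X ⟶ PicF.XT f I := sl f (𝟙 _) (𝟙 _) (Category.id_comp _)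
  have he2 : e ≫ PicF.XTproj f I = f := (sl_proj _ _ _ _).trans (Category.comp_id _)
  have hei : IsIso e := isIso_sl
  let z : I ⟶ J := φ I (toCl 1)
  have key : ∀ y : I ⟶ J, y.left pt ∈ connectedComponent (z.left pt) := by
    intro y
    obtain ⟨c, -, hc0, rfl⟩ := exists_rig σ hσ hJ I y
    let e' : X ⟶ pullback (PicF.XTproj f I) (𝟙 (Spec (CommRingCat.of Ω))) :=
      pullback.lift e f (by rw [he2, Category.comp_id])
    have h1 : pull e c ∈ @alg0 Ω _ X ⟨f⟩ _ := by
      have h1 := @pull_mem_alg0 Ω _ (pullback (PicF.XTproj f I) (𝟙 _)) (fibOver (PicF.XTproj f I) (𝟙 _)) _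
        X ⟨f⟩ e' (pullback.lift_snd _ _ _) _ (hc0 Ω (𝟙 _))
      rwa [← pull_comp, pullback.lift_fst] at h1
    rw [mem_alg0_iff'] at h1
    obtain ⟨T, q, hT, hlft, hqc, M, t, t₀, ht, ht₀, hM, hM₀⟩ := h1
    have hzero : FibZero (PicF.XTproj f (Over.mk q)) M := fibZero_of_connected q t₀ ht₀ M hM₀
    let g : Over.mk q ⟶ J := φ (Over.mk q) (toCl M)
    have hz : AbDual.IsPicZeroCl f (Over.mk q) (toCl M) := (isPicZeroCl_toCl_iff f _ _).2 hzero
    have hcl : ∀ (s : Spec (CommRingCat.of Ω) ⟶ T) (hs : s ≫ q = 𝟙 _) (d : Pic (PicF.XT f I)),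
        pull (sl f q s hs) M = pull e d → (Over.homMk s hs : I ⟶ Over.mk q) ≫ g = φ I (toCl d) := by
      intro s hs d hd
      rw [← hJ.natural _ _ _ _ hz, ← toCl_pull]
      refine congrArg (fun x => φ I (toCl x)) ?_
      rw [sl_eq, pull_comp] at hd
      have h3 := congrArg (pull (inv e)) hd
      have h4 : ∀ x : Pic (PicF.XT f I), pull (inv e) (pull e x) = x := fun x => by
        rw [← pull_comp, IsIso.inv_hom_id, pull_id]
      rw [h4] at h3
      exact h3.trans (h4 _)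
    have h4 := hcl t ht c hM
    have h5 := hcl t₀ ht₀ 1 (by rw [hM₀, map_one])
    have h6 : (φ I (toCl c)).left pt = g.left (t pt) := by rw [← h4]; rfl
    have h7 : z.left pt = g.left (t₀ pt) := by
      change (φ I (toCl 1)).left pt = _
      rw [← h5]; rfl
    rw [h6, h7]
    have hT' : ConnectedSpace (Over.mk q).left := hT
    have h8 : _root_.IsPreconnected (Set.range g.left) := isPreconnected_range g.left.continuous
    exact h8.subset_connectedComponent ⟨_, rfl⟩ ⟨_, rfl⟩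
  have hjac : JacobsonSpace J.left := LocallyOfFiniteType.jacobsonSpace J.hom
  have huniv : connectedComponent (z.left pt) = Set.univ := by
    by_contra hne
    have h1 : ((connectedComponent (z.left pt))ᶜ).Nonempty := by
      rwa [Set.nonempty_compl]
    have h2 : IsOpen (connectedComponent (z.left pt))ᶜ := isClosed_connectedComponent.isOpen_compl
    have h3 : closure (Set.univ ∩ closedPoints J.left) = Set.univ :=
      JacobsonSpace.closure_inter_closedPoints isClosed_univ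
    rw [Set.univ_inter] at h3
    obtain ⟨x, hx1, hx2⟩ := (dense_iff_closure_eq.2 h3).inter_open_nonempty _ h2 h1
    let y : I ⟶ J := Over.homMk (pointOfClosedPoint J.hom x hx2) (pointOfClosedPoint_comp J.hom x hx2)
    have h4 : y.left pt = x := pointOfClosedPoint_apply J.hom x hx2 pt
    exact hx1 (h4 ▸ key y)
  exact connectedSpace_iff_connectedComponent.2 ⟨z.left pt, huniv⟩

/-- `P₀` over an algebraically closed field is irreducible. -/
theorem irreducibleSpace [IsProper f] [Smooth f] [GeometricallyConnected f] (σ : Spec (CommRingCat.of Ω) ⟶ X)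
    (hσ : σ ≫ f = 𝟙 _) (hJ : AbDual.IsRelPicZeroK Scheme.fppfPrecoverage f J φ) [LocallyOfFiniteType J.hom] :
    IrreducibleSpace J.left := by
  have h1 := connectedSpace σ hσ hJ
  obtain ⟨_, _, -⟩ := exists_grp σ hσ hJ
  exact S0348.result Ω J

end field

section qc

open MonObj

variable {X S : Scheme.{u}} {f : X ⟶ S} {P₀ : Over S} {φ₀ : ∀ T : Over S, PicF.Cl (PicF.XT f T) → (T ⟶ P₀)}

/-- Every point of `P₀` over an algebraically closed field is a product of two points of a given open subset. -/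
theorem exists_mul_pt [IsProper f] [Smooth f] [GeometricallyConnected f]
    (hP₀ : AbDual.IsRelPicZeroK Scheme.fppfPrecoverage f P₀ φ₀) [LocallyOfFiniteType P₀.hom]
    {Ω : Type u} [Field Ω] [IsAlgClosed Ω] (t : Spec (CommRingCat.of Ω) ⟶ S) (U : P₀.left.Opens)
    (hU : ∃ p ∈ U, P₀.hom p = t (IsLocalRing.closedPoint Ω))
    (y : dn t (Over.mk (𝟙 (Spec (CommRingCat.of Ω)))) ⟶ P₀) :
    ∃ a b : dn t (Over.mk (𝟙 (Spec (CommRingCat.of Ω)))) ⟶ P₀,
      a.left (IsLocalRing.closedPoint Ω : Spec (CommRingCat.of Ω)) ∈ U ∧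
      b.left (IsLocalRing.closedPoint Ω : Spec (CommRingCat.of Ω)) ∈ U ∧
      ∀ c d : Pic (PicF.XT f (dn t (Over.mk (𝟙 (Spec (CommRingCat.of Ω)))))),
        FibZero (PicF.XTproj f _) c → FibZero (PicF.XTproj f _) d → φ₀ _ (toCl c) = a → φ₀ _ (toCl d) = b →
          φ₀ _ (toCl (c * d)) = y := by
  let pt : Spec (CommRingCat.of Ω) := IsLocalRing.closedPoint Ω
  let I : Over (Spec (CommRingCat.of Ω)) := Over.mk (𝟙 (Spec (CommRingCat.of Ω)))
  let f' := pullback.snd f t
  have hconn : ConnectedSpace ↑(pullback f t) :=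
    GeometricallyConnected.geometrically_connectedSpace (f := f) _ _ _ (.of_hasPullback _ _)
  obtain ⟨σ, hσ⟩ := exists_point f'
  let J := bcP t P₀
  have hJ := isRelPicZeroK f t hP₀
  have hJl : LocallyOfFiniteType J.hom := inferInstanceAs (LocallyOfFiniteType (pullback.snd P₀.hom t))
  have hirr : IrreducibleSpace J.left := irreducibleSpace σ hσ hJ
  obtain ⟨_, _, hmul⟩ := exists_grp σ hσ hJ
  let U' : J.left.Opens := pullback.fst P₀.hom t ⁻¹ᵁ U
  let y' : I ⟶ J := lift t y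
  let k : J ⟶ J := (Over.homMk J.hom (Category.comp_id _) : J ⟶ I) ≫ y'
  have hk : ∀ {W : Over (Spec (CommRingCat.of Ω))} (u v : W ⟶ J), u ≫ k = v ≫ k := by
    intro W u v
    have : (u ≫ (Over.homMk J.hom (Category.comp_id _) : J ⟶ I)) =
        v ≫ (Over.homMk J.hom (Category.comp_id _) : J ⟶ I) :=
      Over.OverMorphism.ext ((Over.w u).trans (Over.w v).symm)
    rw [← Category.assoc, this, Category.assoc]
  have hky : ∀ u : I ⟶ J, u ≫ k = y' := by
    intro u
    have : (u ≫ (Over.homMk J.hom (Category.comp_id _) : J ⟶ I)) = 𝟙 I :=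
      Over.OverMorphism.ext (Over.w u)
    rw [← Category.assoc, this, Category.id_comp]
  let θ : J ⟶ J := k * (𝟙 J)⁻¹
  have hθ : ∀ {W : Over (Spec (CommRingCat.of Ω))} (u : W ⟶ J), u ≫ θ = (u ≫ k) * u⁻¹ := by
    intro W u
    rw [MonObj.comp_mul, GrpObj.comp_inv, Category.comp_id]
  have hθθ : θ ≫ θ = 𝟙 J := by
    rw [hθ θ, hk θ (𝟙 J), Category.id_comp, mul_inv_rev, inv_inv, mul_comm (𝟙 J), mul_inv_cancel_left]
  have hθθ' : ∀ x : J.left, θ.left (θ.left x) = x := fun x => by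
    have := congrArg (fun q : J ⟶ J => q.left x) hθθ
    exact this
  let V : J.left.Opens := θ.left ⁻¹ᵁ U'
  obtain ⟨p, hpU, hp⟩ := hU
  obtain ⟨w, hw, -⟩ := Scheme.Pullback.exists_preimage_pullback (f := P₀.hom) (g := t) p pt hp
  have hwU : w ∈ U' := by
    change pullback.fst P₀.hom t w ∈ U
    rw [hw]; exact hpU
  have hV : (V : Set J.left).Nonempty := ⟨θ.left w, by
    change θ.left (θ.left w) ∈ U'
    rw [hθθ']; exact hwU⟩
  have hUV := nonempty_preirreducible_inter U'.2 V.2 ⟨w, hwU⟩ hV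
  have hjac : JacobsonSpace J.left := LocallyOfFiniteType.jacobsonSpace J.hom
  have hcl : closure (Set.univ ∩ closedPoints J.left) = Set.univ :=
    JacobsonSpace.closure_inter_closedPoints isClosed_univ
  rw [Set.univ_inter] at hcl
  obtain ⟨α, ⟨hα1, hα2⟩, hα3⟩ := (dense_iff_closure_eq.2 hcl).inter_open_nonempty _ (U'.2.inter V.2) hUV
  let α' : I ⟶ J := Over.homMk (pointOfClosedPoint J.hom α hα3) (pointOfClosedPoint_comp J.hom α hα3)
  have hα' : α'.left pt = α := pointOfClosedPoint_apply J.hom α hα3 pt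
  let β' : I ⟶ J := α' ≫ θ
  have hβ : β' = y' * α'⁻¹ := by rw [← hky α']; exact hθ α'
  have hαβ : α' * β' = y' := by rw [hβ, mul_comm y', mul_inv_cancel_left]
  have hβ' : β'.left pt = θ.left α := by rw [← hα']; rfl
  refine ⟨dnHom t α' ≫ pr t P₀, dnHom t β' ≫ pr t P₀, ?_, ?_, ?_⟩
  · change pullback.fst P₀.hom t (α'.left pt) ∈ U
    rw [hα']; exact hα1
  · change pullback.fst P₀.hom t (β'.left pt) ∈ U
    rw [hβ']; exact hα2
  · intro c d hc hd hca hdb
    let c' := pull (cmp f t I) c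
    let d' := pull (cmp f t I) d
    have hc' : tr f t I c' = c := tr_cmp f t I c
    have hd' : tr f t I d' = d := tr_cmp f t I d
    have hcd' : tr f t I (c' * d') = c * d := by
      rw [tr, map_mul]
      exact congrArg₂ _ hc' hd'
    have hcz : FibZero (PicF.XTproj f' I) c' := by
      rw [← isPicZeroCl_toCl_iff, ← isPicZeroCl_tr_iff, hc', isPicZeroCl_toCl_iff]; exact hc
    have hdz : FibZero (PicF.XTproj f' I) d' := by
      rw [← isPicZeroCl_toCl_iff, ← isPicZeroCl_tr_iff, hd', isPicZeroCl_toCl_iff]; exact hd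
    have h1 : bcφ f t φ₀ I (toCl c') = α' := by
      apply hom_ext_bc
      rw [bcφ_pr, hc', hca]
    have h2 : bcφ f t φ₀ I (toCl d') = β' := by
      apply hom_ext_bc
      rw [bcφ_pr, hd', hdb]
    have h3 := hmul I c' d' hcz hdz
    rw [h1, h2, hαβ] at h3
    rw [← hcd', ← bcφ_pr f t φ₀ I (c' * d'), h3]
    exact lift_pr t y

/-- Lifting a geometric point along a morphism locally of finite type. -/
theorem lift_pt {Ω : Type u} [Field Ω] [IsAlgClosed Ω] {T V P : Over S} (hT : T.left = Spec (CommRingCat.of Ω))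
    (v : V ⟶ P) [LocallyOfFiniteType v.left] (a : T ⟶ P) (x : T.left) (ha : a.left x ∈ Set.range v.left) :
    ∃ a₁ : T ⟶ V, a₁ ≫ v = a := by
  obtain ⟨Tl, Tr, Th⟩ := T
  change Tl = _ at hT
  subst hT
  obtain ⟨w, hw⟩ := ha
  obtain ⟨z, -, -⟩ := Scheme.Pullback.exists_preimage_pullback (f := a.left) (g := v.left) x w hw.symm
  have hne : Nonempty ↑(pullback a.left v.left) := ⟨z⟩
  have hl : LocallyOfFiniteType (pullback.fst a.left v.left) := inferInstance
  obtain ⟨ρ, hρ⟩ := exists_point (pullback.fst a.left v.left)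
  have h1 : (ρ ≫ pullback.snd a.left v.left) ≫ v.left = a.left := by
    rw [Category.assoc, ← pullback.condition]
    exact (Category.assoc _ _ _).symm.trans ((congrArg (fun q => q ≫ a.left) hρ).trans (Category.id_comp _))
  refine ⟨Over.homMk (ρ ≫ pullback.snd a.left v.left) ?_, Over.OverMorphism.ext h1⟩
  rw [← Over.w v, ← Category.assoc, h1]
  exact Over.w a

/-- `P₀` is quasi-compact over an affine base. -/
theorem compactSpace [IsProper f] [Smooth f] [GeometricallyConnected f] [IsAffine S]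
    (hP₀ : AbDual.IsRelPicZeroK Scheme.fppfPrecoverage f P₀ φ₀) [LocallyOfFiniteType P₀.hom] :
    CompactSpace P₀.left := by
  obtain ⟨𝒰, hU⟩ := K247.PicZeroIso.exists_cov_cl₀ hP₀ (𝟙 P₀)
  choose c hc hcφ using hU
  choose d hd using fun i => exists_toCl_of_isPicZeroCl f (hc i)
  let z : Over.mk (𝟙 S) ⟶ P₀ := φ₀ _ (toCl 1)
  have hch : ∀ s : S, ∃ (i : 𝒰.ι) (W : (𝒰.V i).left.Opens), IsAffineOpen W ∧
      z.left s ∈ (𝒰.j i).left '' (W : Set (𝒰.V i).left) := by
    intro s
    obtain ⟨i, v, hv⟩ := 𝒰.covers (z.left s)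
    obtain ⟨W, hW, hvW, -⟩ := exists_isAffineOpen_mem_and_subset (x := v) (U := ⊤) trivial
    exact ⟨i, W, hW, v, hvW, hv⟩
  choose i W hW hzW using hch
  have hop : ∀ s, IsOpen ((𝒰.j (i s)).left '' (W s : Set (𝒰.V (i s)).left)) := fun s =>
    (𝒰.j (i s)).left.isOpenMap _ (W s).2
  obtain ⟨F, hF⟩ := (isCompact_univ : IsCompact (Set.univ : Set S)).elim_finite_subcover
    (fun s : S => z.left ⁻¹' ((𝒰.j (i s)).left '' (W s : Set (𝒰.V (i s)).left)))
    (fun s => (hop s).preimage z.left.continuous) (fun s _ => Set.mem_iUnion.2 ⟨s, hzW s⟩)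
  -- the charts
  let V : S → Over S := fun s => Over.mk ((W s).ι ≫ (𝒰.V (i s)).hom)
  let j : ∀ s, V s ⟶ 𝒰.V (i s) := fun s => Over.homMk (W s).ι rfl
  let e : ∀ s, Pic (PicF.XT f (V s)) := fun s => pull (PicF.XTmap f (j s)) (d (i s))
  have hdz : ∀ k, FibZero (PicF.XTproj f (𝒰.V k)) (d k) := fun k => by
    rw [← isPicZeroCl_toCl_iff, hd]; exact hc k
  have hez : ∀ s, FibZero (PicF.XTproj f (V s)) (e s) := fun s =>
    (hdz (i s)).pull _ _ (XTmap_XTproj f (j s))
  have hev : ∀ s, φ₀ _ (toCl (e s)) = j s ≫ 𝒰.j (i s) := fun s => by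
    rw [toCl_pull, hP₀.natural _ _ _ _ ((isPicZeroCl_toCl_iff f _ _).2 (hdz (i s))), hd, hcφ, Category.comp_id]
  let VV : S → Over S := fun s => Over.mk (pullback.fst (V s).hom (V s).hom ≫ (V s).hom)
  let p₁ : ∀ s, VV s ⟶ V s := fun s => Over.homMk (pullback.fst (V s).hom (V s).hom) rfl
  let p₂ : ∀ s, VV s ⟶ V s := fun s => Over.homMk (pullback.snd (V s).hom (V s).hom) pullback.condition.symm
  let ee : ∀ s, Pic (PicF.XT f (VV s)) := fun s =>
    pull (PicF.XTmap f (p₁ s)) (e s) * pull (PicF.XTmap f (p₂ s)) (e s)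
  have heez : ∀ s, FibZero (PicF.XTproj f (VV s)) (ee s) := fun s =>
    FibZero.mul ((hez s).pull _ _ (XTmap_XTproj f (p₁ s))) ((hez s).pull _ _ (XTmap_XTproj f (p₂ s)))
  let ww : ∀ s, VV s ⟶ P₀ := fun s => φ₀ _ (toCl (ee s))
  have hcomp : ∀ s, IsCompact (Set.range (ww s).left) := fun s => by
    have h1 : IsAffine (V s).left := hW s
    have h2 : IsAffine (VV s).left := inferInstanceAs (IsAffine (pullback (V s).hom (V s).hom))
    exact isCompact_range (ww s).left.continuous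
  have hcov : (Set.univ : Set P₀.left) = ⋃ s ∈ F, Set.range (ww s).left := by
    refine (Set.eq_univ_of_forall fun p => ?_).symm
    obtain ⟨Ω, _, _, y₀, hy₀⟩ := K247.AlgTriv.exists_geom p
    let pt : Spec (CommRingCat.of Ω) := IsLocalRing.closedPoint Ω
    have hyp : y₀ pt = p := by
      have : y₀ pt ∈ ({p} : Set P₀.left) := by
        rw [← hy₀]; exact ⟨pt, rfl⟩
      exact this
    let t : Spec (CommRingCat.of Ω) ⟶ S := y₀ ≫ P₀.hom
    let T : Over S := dn t (Over.mk (𝟙 (Spec (CommRingCat.of Ω))))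
    let y : T ⟶ P₀ := Over.homMk y₀ (Category.id_comp _).symm
    obtain ⟨s, hsF, hs⟩ := Set.mem_iUnion₂.1 (hF (Set.mem_univ (t pt)))
    obtain ⟨a, b, ha, hb, hab⟩ := exists_mul_pt hP₀ t ⟨_, hop s⟩ ⟨z.left (t pt), hs, by
      have h1 := Over.w z
      have h2 : (z.left ≫ P₀.hom) (t pt) = (𝟙 S : S ⟶ S) (t pt) := by rw [h1]; rfl
      exact h2⟩ y
    have hlft : LocallyOfFiniteType (j s ≫ 𝒰.j (i s)).left :=
      inferInstanceAs (LocallyOfFiniteType ((W s).ι ≫ (𝒰.j (i s)).left))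
    have hrange : ∀ x : P₀.left, x ∈ (𝒰.j (i s)).left '' (W s : Set (𝒰.V (i s)).left) →
        x ∈ Set.range (j s ≫ 𝒰.j (i s)).left := by
      rintro _ ⟨v, hv, rfl⟩
      exact ⟨(⟨v, hv⟩ : W s), rfl⟩
    obtain ⟨a₁, ha₁⟩ := lift_pt (Ω := Ω) (T := T) rfl (j s ≫ 𝒰.j (i s)) a pt (hrange _ ha)
    obtain ⟨b₁, hb₁⟩ := lift_pt (Ω := Ω) (T := T) rfl (j s ≫ 𝒰.j (i s)) b pt (hrange _ hb)
    let h : T ⟶ VV s := Over.homMk (pullback.lift a₁.left b₁.left ((Over.w a₁).trans (Over.w b₁).symm)) (by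
      change pullback.lift _ _ _ ≫ pullback.fst _ _ ≫ (V s).hom = _
      rw [pullback.lift_fst_assoc, Over.w a₁])
    have hh₁ : h ≫ p₁ s = a₁ := Over.OverMorphism.ext (pullback.lift_fst _ _ _)
    have hh₂ : h ≫ p₂ s = b₁ := Over.OverMorphism.ext (pullback.lift_snd _ _ _)
    have hpu : pull (PicF.XTmap f h) (ee s) = pull (PicF.XTmap f a₁) (e s) * pull (PicF.XTmap f b₁) (e s) := by
      have h5 : pull (PicF.XTmap f h) (pull (PicF.XTmap f (p₁ s)) (e s)) = pull (PicF.XTmap f a₁) (e s) := by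
        rw [← hh₁, XTmap_comp, pull_comp]
      have h6 : pull (PicF.XTmap f h) (pull (PicF.XTmap f (p₂ s)) (e s)) = pull (PicF.XTmap f b₁) (e s) := by
        rw [← hh₂, XTmap_comp, pull_comp]
      rw [← h5, ← h6]
      exact map_mul _ _ _
    have hfin : h ≫ ww s = y := by
      rw [← hP₀.natural _ _ h _ ((isPicZeroCl_toCl_iff f _ _).2 (heez s)), ← toCl_pull, hpu]
      refine hab _ _ ((hez s).pull _ _ (XTmap_XTproj f a₁)) ((hez s).pull _ _ (XTmap_XTproj f b₁)) ?_ ?_
      · rw [toCl_pull, hP₀.natural _ _ a₁ _ ((isPicZeroCl_toCl_iff f _ _).2 (hez s)), hev, ha₁]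
      · rw [toCl_pull, hP₀.natural _ _ b₁ _ ((isPicZeroCl_toCl_iff f _ _).2 (hez s)), hev, hb₁]
    refine Set.mem_iUnion₂.2 ⟨s, hsF, h.left pt, ?_⟩
    have h3 : (h ≫ ww s).left pt = y.left pt := by rw [hfin]
    exact h3.trans hyp
  refine ⟨?_⟩
  rw [hcov]
  exact F.isCompact_biUnion fun s _ => hcomp s

/-- **`P₀ → S` is quasi-compact.** -/
theorem quasiCompact' [IsProper f] [Smooth f] [GeometricallyConnected f]
    (hP₀ : AbDual.IsRelPicZeroK Scheme.fppfPrecoverage f P₀ φ₀) [LocallyOfFiniteType P₀.hom] :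
    QuasiCompact P₀.hom := by
  refine (IsZariskiLocalAtTarget.iff_of_iSup_eq_top (P := @QuasiCompact) (fun V : S.affineOpens => V.1)
    (iSup_affineOpens_eq_top S)).2 fun V => ?_
  let b := V.1.ι
  have hV : IsAffine (V.1 : Scheme.{u}) := V.2
  have h1 : QuasiCompact (pullback.snd P₀.hom b) := by
    have h3 : LocallyOfFiniteType (bcP b P₀).hom := inferInstanceAs (LocallyOfFiniteType (pullback.snd P₀.hom b))
    have h4 : CompactSpace ↑(pullback P₀.hom b) :=
      compactSpace (f := pullback.snd f b) (P₀ := bcP b P₀) (isRelPicZeroK f b hP₀)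
    exact (quasiCompact_iff_compactSpace (f := pullback.snd P₀.hom b)).2 h4
  change QuasiCompact ((pullbackRestrictIsoRestrict P₀.hom V.1).inv ≫ pullback.snd P₀.hom b)
  infer_instance

/-- The form needed for S12405. -/
theorem quasiCompact {X S : Scheme.{u}} (f : X ⟶ S)
    [IsProper f] [Smooth f] [GeometricallyConnected f]
    (P : Over S) [LocallyOfFinitePresentation P.hom]
    (P₀ : Over S) (φ₀ : ∀ T : Over S, PicF.Cl (PicF.XT f T) → (T ⟶ P₀))
    (hP₀ : AbDual.IsRelPicZeroK Scheme.fppfPrecoverage f P₀ φ₀)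
    (j : P₀ ⟶ P) [IsOpenImmersion j.left] : QuasiCompact P₀.hom := by
  have h1 : LocallyOfFiniteType P₀.hom := by
    rw [← Over.w j]; infer_instance
  exact quasiCompact' hP₀

end qc

end K247.QcZero
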