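import Groth.Agent.Fga.JacFib
import Groth.Agent.Flat2G.ProperDim
import Groth.Agent.Pic13.H167.ChiGeom
import Groth.Agent.S1026
import Groth.Prelude.Def_AbDual

/-!
# The fibre degree of an invertible module on a family of curves

`degAt f T t c = χ(c_t) - χ(O_t)`: compatible with base change, locally constant on `T` for `f` proper, flat and locally
of finite presentation with one-dimensional fibres.
-/

set_option autoImplicit false
universe u
open CategoryTheory CategoryTheory.Limits AlgebraicGeometry Opposite TopologicalSpace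

namespace K247.DegFn

open Groth.Agent Groth.Agent.Grpsch Groth.Agent.Grpsch.PicGrp Groth.Agent.Fga.RigGrp Groth.Agent.Fga.JacSurj
  Groth.Agent.Picfga.ChiDef

variable {C S : Scheme.{u}} (f : C ⟶ S)

/-- The fibre degree at `t` of a class on `C_T`. -/
noncomputable def degAt (T : Over S) (t : T.left) (c : Pic (PicF.XT f T)) : ℤ :=
  chiAt f T t c - chiAt f T t 1

theorem degAt_pull [QuasiCompact f] [QuasiSeparated f] {T T' : Over S} (g : T' ⟶ T) (t : T'.left)
    (c : Pic (PicF.XT f T)) :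
    degAt f T' t (pull (PicF.XTmap f g) c) = degAt f T (g.left t) c := by
  unfold degAt
  rw [chiAt_pull (Fga.JacFib.bcStep f), ← chiAt_pull (Fga.JacFib.bcStep f) g t 1, map_one]

theorem degAt_mk [QuasiCompact f] [QuasiSeparated f] (T : Over S) (t : T.left) {L : (PicF.XT f T).Modules}
    (hL : PicF.IsInvertible L) :
    degAt f T t (mk L hL) =
      FGA.eulerCharLE (T.left.residueField t) (FGA.fibreAt f T t).left (FGA.restrFibre f T t L) 1 -
        FGA.eulerCharLE (T.left.residueField t) (FGA.fibreAt f T t).left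
          (Coh.structureModule (FGA.fibreAt f T t).left) 1 := by
  unfold degAt
  rw [Fga.JacFib.euler_eq_chiAt f T t L hL, Fga.JacFib.euler_structure_eq f T t]

/-- The fibres of `C_T → T` have dimension one. -/
theorem dim_fiber [LocallyOfFiniteType f] (hdim : ∀ s : S, topologicalKrullDim ↥(f.fiber s) = 1) (T : Over S)
    (t : T.left) : topologicalKrullDim ↥((PicF.XTproj f T).fiber t) = 1 :=
  (Flat2G.ProperDim.topologicalKrullDim_fiber_baseChange f (PicF.XTproj f T) (pullback.fst f T.hom) T.hom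
    (IsPullback.of_hasPullback f T.hom) t).trans (hdim _)

theorem chiAt_eq_eulerChar [IsProper f] (hdim : ∀ s : S, topologicalKrullDim ↥(f.fiber s) = 1) (T : Over S)
    (t : T.left) {L : (PicF.XT f T).Modules} (hL : PicF.IsInvertible L) :
    chiAt f T t (mk L hL) = PerfAux.eulerChar (PicF.XTproj f T) L t := by
  rw [← Fga.JacFib.euler_eq_chiAt f T t L hL]
  have : IsProper (PicF.XTproj f T) := inferInstanceAs (IsProper (pullback.snd f T.hom))
  exact (Pic13.H167.ChiGeom.eulerChar_eq (PicF.XTproj f T) L t 1 (dim_fiber f hdim T t).le).symm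

theorem isLocallyConstant_chiAt [IsProper f] [Flat f] [LocallyOfFinitePresentation f]
    (hdim : ∀ s : S, topologicalKrullDim ↥(f.fiber s) = 1) (T : Over S) (c : Pic (PicF.XT f T)) :
    IsLocallyConstant fun t : T.left => chiAt f T t c := by
  obtain ⟨L, hL, rfl⟩ := exists_mk c
  have h1 : IsProper (PicF.XTproj f T) := inferInstanceAs (IsProper (pullback.snd f T.hom))
  have h2 : Flat (PicF.XTproj f T) := inferInstanceAs (Flat (pullback.snd f T.hom))
  have h3 : LocallyOfFinitePresentation (PicF.XTproj f T) :=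
    inferInstanceAs (LocallyOfFinitePresentation (pullback.snd f T.hom))
  have h := S1026.result (PicF.XTproj f T) L (Ega3B.ChiFib.isFP_of_isInvertible hL)
    (Ega3B.ChiFib.isFlatOver_of_isInvertible _ hL)
  exact (funext fun t => (chiAt_eq_eulerChar f hdim T t hL)) ▸ h

theorem isLocallyConstant_degAt [IsProper f] [Flat f] [LocallyOfFinitePresentation f]
    (hdim : ∀ s : S, topologicalKrullDim ↥(f.fiber s) = 1) (T : Over S) (c : Pic (PicF.XT f T)) :
    IsLocallyConstant fun t : T.left => degAt f T t c :=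
  (isLocallyConstant_chiAt f hdim T c).sub (isLocallyConstant_chiAt f hdim T 1)

/-- A point of a scheme lifts to a member of an fppf covering. -/
theorem exists_mem {Y : Scheme.{u}} {R : Presieve Y} (hR : R ∈ Scheme.fppfPrecoverage Y) (y : Y) :
    ∃ (U : Scheme.{u}) (u : U ⟶ Y) (x : U), R u ∧ Flat u ∧ LocallyOfFinitePresentation u ∧ u x = y := by
  obtain ⟨ι, U, v, rfl⟩ := R.exists_eq_ofArrows
  obtain ⟨hR1, hR2⟩ := (Scheme.ofArrows_mem_precoverage_iff _).1 hR
  obtain ⟨i, x, rfl⟩ := hR1 y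
  exact ⟨_, v i, x, ⟨i⟩, (hR2 i).1, (hR2 i).2, rfl⟩

variable {f} in
/-- Two classes with the same image point in `P`: after common base changes they agree. -/
theorem exists_common {P : Over S} {φ : ∀ T : Over S, PicF.Cl (PicF.XT f T) → (T ⟶ P)}
    (hP : AbDual.IsRelPicK Scheme.fppfPrecoverage f P φ) {T₁ T₂ : Over S} (c₁ : Pic (PicF.XT f T₁))
    (c₂ : Pic (PicF.XT f T₂)) (t₁ : T₁.left) (t₂ : T₂.left)
    (h : (φ T₁ (toCl c₁)).left t₁ = (φ T₂ (toCl c₂)).left t₂) :
    ∃ (V : Over S) (a₁ : V ⟶ T₁) (a₂ : V ⟶ T₂) (v : V.left), a₁.left v = t₁ ∧ a₂.left v = t₂ ∧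
      pull (PicF.XTmap f a₁) c₁ = pull (PicF.XTmap f a₂) c₂ := by
  obtain ⟨w, hw₁, hw₂⟩ := Scheme.Pullback.exists_preimage_pullback t₁ t₂ h
  let W : Over S := AbDual.ovr T₁ (pullback.fst (φ T₁ (toCl c₁)).left (φ T₂ (toCl c₂)).left)
  let b₁ : W ⟶ T₁ := AbDual.ovrHom T₁ _
  let b₂ : W ⟶ T₂ := Over.homMk (pullback.snd (φ T₁ (toCl c₁)).left (φ T₂ (toCl c₂)).left) (by
    change _ = pullback.fst _ _ ≫ T₁.hom
    rw [← Over.w (φ T₁ (toCl c₁)), ← Over.w (φ T₂ (toCl c₂)), pullback.condition_assoc])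
  have hb : b₁ ≫ φ T₁ (toCl c₁) = b₂ ≫ φ T₂ (toCl c₂) := Over.OverMorphism.ext pullback.condition
  have hi : ∀ {T : Over S} (c : Pic (PicF.XT f T)), PicF.IsInvertibleCl (toCl c) := by
    intro T c
    obtain ⟨L, hL, rfl⟩ := exists_mk c
    exact ⟨L, rfl, hL⟩
  have h1 : φ W (toCl (pull (PicF.XTmap f b₁) c₁)) = φ W (toCl (pull (PicF.XTmap f b₂) c₂)) := by
    rw [toCl_pull, toCl_pull, hP.natural _ _ _ _ (hi c₁), hP.natural _ _ _ _ (hi c₂), hb]
  obtain ⟨R, hR, hloc⟩ := hP.locallyInjective W _ _ (hi _) (hi _) h1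
  obtain ⟨U, v, x, hv, -, -, hx⟩ := exists_mem hR w
  refine ⟨AbDual.ovr W v, AbDual.ovrHom W v ≫ b₁, AbDual.ovrHom W v ≫ b₂, x, ?_, ?_, ?_⟩
  · change (pullback.fst (φ T₁ (toCl c₁)).left (φ T₂ (toCl c₂)).left) (v x) = t₁
    rw [hx, hw₁]
  · change (pullback.snd (φ T₁ (toCl c₁)).left (φ T₂ (toCl c₂)).left) (v x) = t₂
    rw [hx, hw₂]
  · have h2 := hloc v hv
    rw [← toCl_pull, ← toCl_pull] at h2
    rw [XTmap_comp, XTmap_comp, pull_comp, pull_comp]
    exact toCl_injective h2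

variable {f} in
theorem degAt_eq [QuasiCompact f] [QuasiSeparated f] {P : Over S}
    {φ : ∀ T : Over S, PicF.Cl (PicF.XT f T) → (T ⟶ P)}
    (hP : AbDual.IsRelPicK Scheme.fppfPrecoverage f P φ) {T₁ T₂ : Over S} (c₁ : Pic (PicF.XT f T₁))
    (c₂ : Pic (PicF.XT f T₂)) (t₁ : T₁.left) (t₂ : T₂.left)
    (h : (φ T₁ (toCl c₁)).left t₁ = (φ T₂ (toCl c₂)).left t₂) :
    degAt f T₁ t₁ c₁ = degAt f T₂ t₂ c₂ := by
  obtain ⟨V, a₁, a₂, v, rfl, rfl, h3⟩ := exists_common hP c₁ c₂ t₁ t₂ h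
  rw [← degAt_pull f a₁ v c₁, ← degAt_pull f a₂ v c₂, h3]

variable {f} in
/-- Points of `P` come from classes on members of an fppf covering. -/
theorem exists_chart {P : Over S} {φ : ∀ T : Over S, PicF.Cl (PicF.XT f T) → (T ⟶ P)}
    (hP : AbDual.IsRelPicK Scheme.fppfPrecoverage f P φ) (p : P.left) :
    ∃ (U : Scheme.{u}) (u : U ⟶ P.left) (x : U) (c : Pic (PicF.XT f (AbDual.ovr P u))), Flat u ∧
      LocallyOfFinitePresentation u ∧ u x = p ∧ φ (AbDual.ovr P u) (toCl c) = AbDual.ovrHom P u := by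
  obtain ⟨R, hR, hloc⟩ := hP.locallySurjective P (𝟙 P)
  obtain ⟨U, u, x, hu, h1, h2, hx⟩ := exists_mem hR p
  obtain ⟨_, ⟨L, rfl, hL⟩, h3⟩ := hloc u hu
  exact ⟨U, u, x, mk L hL, h1, h2, hx, by rw [Category.comp_id] at h3; exact h3⟩

variable {f} in
theorem exists_degree [IsProper f] [Flat f] [LocallyOfFinitePresentation f]
    (hdim : ∀ s : S, topologicalKrullDim ↥(f.fiber s) = 1) {P : Over S}
    {φ : ∀ T : Over S, PicF.Cl (PicF.XT f T) → (T ⟶ P)}
    (hP : AbDual.IsRelPicK Scheme.fppfPrecoverage f P φ) :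
    ∃ d : ↥P.left → ℤ, IsLocallyConstant d ∧
      ∀ (T : Over S) (c : Pic (PicF.XT f T)) (t : T.left), d ((φ T (toCl c)).left t) = degAt f T t c := by
  choose U u x c hu1 hu2 hux hφ using fun p => exists_chart hP p
  have key : ∀ (T : Over S) (c' : Pic (PicF.XT f T)) (t : T.left) (p : P.left),
      (φ T (toCl c')).left t = p → degAt f (AbDual.ovr P (u p)) (x p) (c p) = degAt f T t c' := by
    intro T c' t p hp
    refine degAt_eq hP _ _ _ _ ?_
    rw [hφ p, hp]
    exact hux p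
  refine ⟨fun p => degAt f (AbDual.ovr P (u p)) (x p) (c p), ?_, fun T c' t => key T c' t _ rfl⟩
  rw [IsLocallyConstant.iff_exists_open]
  intro p
  have hop : IsOpen {y : U p | degAt f (AbDual.ovr P (u p)) y (c p) =
      degAt f (AbDual.ovr P (u p)) (x p) (c p)} :=
    (isLocallyConstant_degAt f hdim (AbDual.ovr P (u p)) (c p)).isOpen_fiber _
  have := hu1 p
  have := hu2 p
  refine ⟨_, (u p).isOpenMap _ hop, ⟨x p, rfl, hux p⟩, ?_⟩
  rintro _ ⟨y, hy, rfl⟩
  refine (key (AbDual.ovr P (u p)) (c p) y _ ?_).trans hy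
  rw [hφ p]
  rfl

end K247.DegFn
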