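import Groth.Agent.Ega2.H275.FrameData
import Groth.Agent.Ega2.QCohLocal
import Groth.Agent.Dcoh.PushFLF304
import Groth.Agent.Picfga.HilbAff

/-!
# Frames of the direct image of the structure sheaf for a finite locally free morphism of constant degree

`exists_fr_of_deg`: for `f : X' ⟶ X` finite locally free of degree `d`, every point of `X` has a neighbourhood `W`
with a frame `Fr f W d`.
-/

set_option autoImplicit false
universe u

open CategoryTheory CategoryTheory.Limits AlgebraicGeometry TopologicalSpace Opposite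

namespace K247.FrDeg

open Groth.Agent.Fdesc.LocGen Groth.Agent.Ega2.H275.FrameNorm

variable {X X' : Scheme.{u}} {f : X' ⟶ X}

/-- the direct image of the structure sheaf is finite locally free -/
theorem isFinLocFree_push (h : Mor2.IsFinLocFree f) :
    FlatMod.IsFinLocFree ((Coh.push f).obj (Coh.structureModule X')) := by
  obtain ⟨h1, h2, h3⟩ := h
  refine Groth.Agent.Dcoh.PushFLF304.isFinLocFree_pushforward' f
    (Groth.Agent.Ega2.QCohLocal.isQCoh_structureModule X') (fun V => IsAffineOpen V) ?_ ?_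
  · intro x
    obtain ⟨V, hV, hx, -⟩ := exists_affine_nhds (X := X) (U := ⊤) (x := x) trivial
    exact ⟨V, hV, hV, hx⟩
  · intro V _ hV
    have e1 : (f.app V).hom.Finite := f.finite_app V hV
    have e2 : (f.app V).hom.Flat := by
      have := f.flat_appLE hV (hV.preimage f) le_rfl
      rwa [Scheme.Hom.appLE_eq_app] at this
    have e3 : (f.app V).hom.FinitePresentation := by
      have := f.finitePresentation_appLE hV (hV.preimage f) le_rfl
      rwa [Scheme.Hom.appLE_eq_app] at this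
    let a1 : Algebra Γ(X, V) Γ(X', f ⁻¹ᵁ V) := (f.app V).hom.toAlgebra
    have i1 : Module.Finite Γ(X, V) Γ(X', f ⁻¹ᵁ V) := e1
    have i2 : Module.Flat Γ(X, V) Γ(X', f ⁻¹ᵁ V) := e2
    have i3 : Algebra.FinitePresentation Γ(X, V) Γ(X', f ⁻¹ᵁ V) := e3
    have i4 : Module.FinitePresentation Γ(X, V) Γ(X', f ⁻¹ᵁ V) :=
      Module.FinitePresentation.of_finite_of_finitePresentation _ _
    have i5 : Module.Projective Γ(X, V) Γ(X', f ⁻¹ᵁ V) := Module.Flat.projective_of_finitePresentation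
    exact ⟨i1, i5⟩

theorem finrank_eq [IsFinite f] [Flat f] {W : X.Opens} {n : ℕ} (fr : Fr f W n) {x : X} (hx : x ∈ W) :
    f.finrank x = n := by
  obtain ⟨V, hV, hxV, hVW⟩ := exists_affine_nhds hx
  have : IsAffine (V : Scheme.{u}) := hV
  have : IsAffine (f ⁻¹ᵁ V : Scheme.{u}) := hV.preimage f
  have hle : V.ι ''ᵁ (⊤ : (V : Scheme.{u}).Opens) ≤ W := by simpa using hVW
  let fr' : Fr (f ∣_ V) ⊤ n := Groth.Agent.Ega2.H275.FrameData.frRestrict V ⊤ (fr.restr hle)
  have h1 := Groth.Agent.Picfga.HilbAff.isFinLocFreeOfDeg_of_rBas (f ∣_ V)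
    (fun k => ores (pre (f ∣_ V) le_rfl) (fr'.e k)) (fr'.bij ⊤ le_rfl)
  have h2 := h1.2 ⟨x, hxV⟩
  rw [Scheme.Hom.finrank_of_isPullback _ _ _ _ (isPullback_morphismRestrict f V).flip] at h2
  exact h2

/-- Local frames of rank `d`. -/
theorem exists_fr_of_deg {d : ℕ} (h : Mor2.IsFinLocFreeOfDeg d f) (x : X) :
    ∃ W : X.Opens, x ∈ W ∧ Nonempty (Fr f W d) := by
  obtain ⟨W, n, hx, ⟨fr⟩⟩ := exists_fr (isFinLocFree_push h.1) x
  have := h.1.1
  have := h.1.2.1
  have h1 := finrank_eq fr hx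
  rw [h.2] at h1
  subst h1
  exact ⟨W, hx, ⟨fr⟩⟩

end K247.FrDeg
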