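import Groth.Agent.PicF.K247.PicGen
import Groth.Agent.VarietyA.RegSmoothSch
import Groth.Agent.S2821
import Groth.Agent.S2280

/-!
# The Picard group of a smooth connected scheme over a field is generated by effective Cartier divisors
-/

set_option autoImplicit false
universe u
open CategoryTheory CategoryTheory.Limits AlgebraicGeometry Opposite TopologicalSpace

namespace K247.PicGenS

open Groth.Agent Groth.Agent.Grpsch.PicGrp Groth.Agent.Fga.JacFactor

variable {K : Type u} [Field K] {X : Scheme.{u}} (f : X ⟶ Spec (CommRingCat.of K)) [Smooth f]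

include f in
theorem isRegularLocalRing_stalk (x : X) : IsRegularLocalRing (X.presheaf.stalk x) :=
  VarietyA.RegSmoothSch.isRegularLocalRing_stalk_of_mem_smoothLocus f x (by rw [f.smoothLocus_eq_top]; trivial)

include f in
theorem ufd_stalk (x : X) : UniqueFactorizationMonoid (X.presheaf.stalk x) := by
  have := isRegularLocalRing_stalk f x
  exact (Groth.Agent.S2821.result (X.presheaf.stalk x)).2

include f in
theorem isLocallyNoetherian : IsLocallyNoetherian X :=
  LocallyOfFiniteType.isLocallyNoetherian f

include f in
theorem isIntegral [ConnectedSpace X] : IsIntegral X := by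
  have := isLocallyNoetherian f
  refine (Groth.Agent.S2280.result X).2.2 ⟨inferInstance, fun x => ?_⟩
  have := isRegularLocalRing_stalk f x
  exact (Groth.Agent.S2821.result (X.presheaf.stalk x)).1

include f in
theorem exists_eff [IsSeparated f] [QuasiCompact f] [ConnectedSpace X] (c : Pic X) :
    ∃ (I₁ I₂ : X.IdealSheafData) (h₁ : BlowUp.IsEffCartierIdeal I₁) (h₂ : BlowUp.IsEffCartierIdeal I₂),
      c = dcl I₁ h₁ * (dcl I₂ h₂)⁻¹ := by
  have h1 := isIntegral f
  have h2 := isLocallyNoetherian f
  have h3 : CompactSpace X := QuasiCompact.compactSpace_of_compactSpace f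
  have h4 : IsNoetherian X := { }
  have h5 : X.IsSeparated := by
    rw [Scheme.isSeparated_iff]
    have h6 : terminal.from X = f ≫ terminal.from _ := terminal.hom_ext _ _
    rw [h6]
    infer_instance
  exact K247.PicGen.exists_eff (ufd_stalk f) c

end K247.PicGenS
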