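import Groth.Agent.PicF.K247.QcZero
import Mathlib.AlgebraicGeometry.ValuativeCriterion
import Mathlib.FieldTheory.IsAlgClosed.AlgebraicClosure

/-!
# Properness of `Pic⁰` from the extension of line bundles over valuation rings

* `universallyClosed_of_algClosed`: in the valuative criterion of universal closedness it is enough to consider valuation
  rings with algebraically closed field of fractions.
* `isProper_of_ext`: `P₀ → S` is proper if invertible modules extend from `X_K` to `X_R` for valuation rings `R` with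
  algebraically closed field of fractions `K`.
-/

set_option autoImplicit false
universe u
open CategoryTheory CategoryTheory.Limits AlgebraicGeometry Opposite TopologicalSpace

namespace K247.ValExt

open IsLocalRing

/-- Existence in the valuative criterion for valuation rings with algebraically closed field of fractions. -/
def ExAlg : MorphismProperty Scheme.{u} :=
  fun _ _ f ↦ ∀ S : ValuativeCommSq f, IsAlgClosed S.K → S.commSq.HasLift

set_option backward.isDefEq.respectTransparency.types false in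
theorem specializingMap {X Y : Scheme.{u}} (f : X ⟶ Y) (H : ExAlg f) : SpecializingMap f := by
  intro x' y h
  let K' : Type u := AlgebraicClosure (X.residueField x')
  let a : X.residueField x' ⟶ CommRingCat.of K' :=
    CommRingCat.ofHom (algebraMap (X.residueField x') (AlgebraicClosure (X.residueField x')))
  let ψ : Y.presheaf.stalk y ⟶ CommRingCat.of K' :=
    Y.presheaf.stalkSpecializes h ≫ f.stalkMap x' ≫ X.residue x' ≫ a
  obtain ⟨A, hA, hA_local⟩ := exists_factor_valuationRing ψ.hom
  let ψA : Y.presheaf.stalk y ⟶ .of A := CommRingCat.ofHom (ψ.hom.codRestrict _ hA)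
  have w : (Spec.map a ≫ X.fromSpecResidueField x') ≫ f =
      Spec.map (CommRingCat.ofHom (algebraMap A K')) ≫ Spec.map ψA ≫ Y.fromSpecStalk y := by
    rw [Scheme.fromSpecResidueField, Category.assoc, Category.assoc, ← Scheme.SpecMap_stalkMap_fromSpecStalk,
      ← Scheme.SpecMap_stalkSpecializes_fromSpecStalk h]
    simp_rw [← Spec.map_comp_assoc]
    rfl
  obtain ⟨l, hl₁, hl₂⟩ := (H { R := A, K := K', commSq := ⟨w⟩, .. }
    (inferInstanceAs (IsAlgClosed (AlgebraicClosure (X.residueField x'))))).exists_lift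
  dsimp only at hl₁ hl₂
  refine ⟨l (closedPoint A), ?_, ?_⟩
  · have h1 : (Spec.map a ≫ X.fromSpecResidueField x') (closedPoint K') = x' := by
      rw [Scheme.Hom.comp_apply]
      exact X.fromSpecResidueField_apply x' _
    simp_rw [← h1, ← hl₁]
    exact (specializes_closedPoint _).map l.continuous
  · rw [← Scheme.Hom.comp_apply, hl₂]
    simp only [Scheme.Hom.comp_base, TopCat.coe_comp, Function.comp_apply]
    have : Spec.map ψA (closedPoint A) = closedPoint (Y.presheaf.stalk y) :=
      comap_closedPoint (S := A) (ψ.hom.codRestrict A.toSubring hA)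
    rw [this, Y.fromSpecStalk_closedPoint]

instance stableUnderBaseChange : ExAlg.{u}.IsStableUnderBaseChange := by
  constructor
  intro Y' X X' Y Y'_to_Y f X'_to_X f' hP hf commSq halg
  let commSq' : ValuativeCommSq f :=
  { R := commSq.R
    K := commSq.K
    i₁ := commSq.i₁ ≫ X'_to_X
    i₂ := commSq.i₂ ≫ Y'_to_Y
    commSq := ⟨by simp only [Category.assoc, hP.w, reassoc_of% commSq.commSq.w]⟩ }
  obtain ⟨l₀, hl₁, hl₂⟩ := (hf commSq' halg).exists_lift
  refine ⟨⟨⟨hP.lift l₀ commSq.i₂ (by simp_all only [commSq']), ?_, hP.lift_snd _ _ _⟩⟩⟩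
  apply hP.hom_ext
  · simpa
  · simp only [Category.assoc]
    rw [hP.lift_snd]
    rw [commSq.commSq.w]

theorem universallyClosed_of_algClosed {X Y : Scheme.{u}} (f : X ⟶ Y) [QuasiCompact f] (H : ExAlg f) :
    UniversallyClosed f := by
  refine UniversallyClosed.of_valuativeCriterion f ?_
  rw [ValuativeCriterion.Existence.eq]
  intro X' Y' i₁ i₂ f' hP
  exact specializingMap f' (MorphismProperty.of_isPullback (P := ExAlg) hP.flip H)

open Groth.Agent Groth.Agent.Grpsch Groth.Agent.Grpsch.PicGrp Groth.Agent.Fga.RigGrp K530.PicZero K732.Cov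
  K247.GrpZero

/-- Extension of classes of invertible modules over valuation rings with algebraically closed field of fractions. -/
def ExtProp {X S : Scheme.{u}} (f : X ⟶ S) : Prop :=
  ∀ (R K : Type u) [CommRing R] [IsDomain R] [ValuationRing R] [Field K] [Algebra R K] [IsFractionRing R K],
    IsAlgClosed K → ∀ (b : Spec (CommRingCat.of R) ⟶ S)
      (c : Pic (PicF.XT f (Over.mk (Spec.map (CommRingCat.ofHom (algebraMap R K)) ≫ b)))),
      ∃ c' : Pic (PicF.XT f (Over.mk b)), pull (PicF.XTmap f (Over.homMk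
        (Spec.map (CommRingCat.ofHom (algebraMap R K))) rfl :
          Over.mk (Spec.map (CommRingCat.ofHom (algebraMap R K)) ≫ b) ⟶ Over.mk b)) c' = c

variable {X S : Scheme.{u}} {f : X ⟶ S}
  {P : Over S} {φ : ∀ T : Over S, PicF.Cl (PicF.XT f T) → (T ⟶ P)}
  {P₀ : Over S} {φ₀ : ∀ T : Over S, PicF.Cl (PicF.XT f T) → (T ⟶ P₀)}

/-- Points with values in an algebraically closed field are given by classes. -/
theorem exists_class (hP₀ : AbDual.IsRelPicZeroK Scheme.fppfPrecoverage f P₀ φ₀)
    {K : Type u} [Field K] [IsAlgClosed K] {T : Over S} (hT : T.left = Spec (CommRingCat.of K)) (x : T.left)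
    (g : T ⟶ P₀) : ∃ c : Pic (PicF.XT f T), FibZero (PicF.XTproj f T) c ∧ φ₀ T (toCl c) = g := by
  obtain ⟨𝒰, hU⟩ := K247.PicZeroIso.exists_cov_cl₀ hP₀ g
  obtain ⟨i, v, hv⟩ := 𝒰.covers x
  obtain ⟨a, ha⟩ := K247.QcZero.lift_pt hT (𝒰.j i) (𝟙 T) x ⟨v, hv⟩
  obtain ⟨c, hc, hcφ⟩ := hU i
  obtain ⟨d, rfl⟩ := exists_toCl_of_isPicZeroCl f hc
  have hd := (isPicZeroCl_toCl_iff f _ _).1 hc
  refine ⟨pull (PicF.XTmap f a) d, hd.pull _ _ (XTmap_XTproj f a), ?_⟩
  rw [toCl_pull, hP₀.natural _ _ _ _ hc, hcφ, reassoc_of% ha]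

theorem exAlg_of_ext (hext : ExtProp f) (hP : AbDual.IsRelPicK Scheme.fppfPrecoverage f P φ)
    (hP₀ : AbDual.IsRelPicZeroK Scheme.fppfPrecoverage f P₀ φ₀)
    (j : P₀ ⟶ P) [IsOpenImmersion j.left] [IsClosedImmersion j.left]
    (hj : ∀ (T : Over S) (c : PicF.Cl (PicF.XT f T)), AbDual.IsPicZeroCl f T c → φ₀ T c ≫ j = φ T c) :
    ExAlg P₀.hom := by
  rintro ⟨R, K, i₁, b, ⟨w⟩⟩ hK
  change IsAlgClosed K at hK
  let q : Spec (CommRingCat.of K) ⟶ Spec (CommRingCat.of R) := Spec.map (CommRingCat.ofHom (algebraMap R K))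
  change i₁ ≫ P₀.hom = q ≫ b at w
  let TR : Over S := Over.mk b
  let TK : Over S := Over.mk (q ≫ b)
  let i : TK ⟶ TR := Over.homMk q rfl
  let g : TK ⟶ P₀ := Over.homMk i₁ w
  obtain ⟨c, hc, hcg⟩ := exists_class (K := K) hP₀ (T := TK) rfl (closedPoint K : Spec (CommRingCat.of K)) g
  obtain ⟨c', hc'⟩ := hext R K hK b c
  let m : TR ⟶ P := φ TR (toCl c')
  have hm : i ≫ m = g ≫ j := by
    rw [← hcg, hj _ _ ((isPicZeroCl_toCl_iff f _ _).2 hc), ← hc', toCl_pull,
      hP.natural _ _ _ _ (isInvertibleCl_toCl _)]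
  -- the image of `m` lies in the clopen subset
  have hr : Set.range m.left ⊆ Set.range j.left := by
    have h1 : IsClosed (m.left ⁻¹' Set.range j.left) :=
      (j.left.isClosedEmbedding.isClosed_range).preimage m.left.continuous
    have h2 : i.left (closedPoint K : Spec (CommRingCat.of K)) ∈ m.left ⁻¹' Set.range j.left := by
      refine ⟨i₁ (closedPoint K), ?_⟩
      have := congrArg (fun k : TK ⟶ P => k.left (closedPoint K : Spec (CommRingCat.of K))) hm
      exact this.symm
    rintro _ ⟨x, rfl⟩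
    have h3 : i.left (closedPoint K : Spec (CommRingCat.of K)) ⤳ x := by
      have h4 : q (closedPoint K) = (⊥ : PrimeSpectrum R) := by
        apply PrimeSpectrum.ext
        change Ideal.comap (algebraMap R K) (closedPoint K).asIdeal = ⊥
        have : (closedPoint K).asIdeal = ⊥ := by
          change maximalIdeal K = ⊥
          exact maximalIdeal_eq_bot
        rw [this, ← RingHom.ker_eq_comap_bot, (RingHom.injective_iff_ker_eq_bot _).1
          (IsFractionRing.injective R K)]
      change q (closedPoint K) ⤳ x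
      rw [h4]
      exact PrimeSpectrum.le_iff_specializes _ _ |>.1 bot_le
    exact h3.mem_closed h1 h2
  let l : Spec (CommRingCat.of R) ⟶ P₀.left := IsOpenImmersion.lift j.left m.left hr
  have hl : l ≫ j.left = m.left := IsOpenImmersion.lift_fac _ _ _
  refine ⟨⟨⟨l, ?_, ?_⟩⟩⟩
  · change q ≫ l = i₁
    rw [← cancel_mono j.left, Category.assoc, hl]
    exact congrArg (fun k : TK ⟶ P => k.left) hm
  · change l ≫ P₀.hom = b
    rw [← Over.w j, ← Category.assoc, hl]
    exact Over.w m

/-- Properness of `P₀ → S` from the extension of invertible modules. -/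
theorem isProper_of_ext [IsProper f] [Smooth f] [GeometricallyConnected f] (hext : ExtProp f)
    (hP : AbDual.IsRelPicK Scheme.fppfPrecoverage f P φ) [IsSeparated P.hom] [LocallyOfFinitePresentation P.hom]
    (hP₀ : AbDual.IsRelPicZeroK Scheme.fppfPrecoverage f P₀ φ₀)
    (j : P₀ ⟶ P) [IsOpenImmersion j.left] [IsClosedImmersion j.left]
    (hj : ∀ (T : Over S) (c : PicF.Cl (PicF.XT f T)), AbDual.IsPicZeroCl f T c → φ₀ T c ≫ j = φ T c) :
    IsProper P₀.hom := by
  have h0 : LocallyOfFiniteType P₀.hom := by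
    rw [← Over.w j]; infer_instance
  have h1 : IsSeparated P₀.hom := by
    rw [← Over.w j]; infer_instance
  have h2 : QuasiCompact P₀.hom := K247.QcZero.quasiCompact' hP₀
  have h3 : UniversallyClosed P₀.hom := universallyClosed_of_algClosed P₀.hom (exAlg_of_ext hext hP hP₀ j hj)
  exact { }

end K247.ValExt
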