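import Groth.Agent.PicF.K247.FibDeg
import Groth.Agent.PicF.K247.GclBC
import Groth.Agent.PicF.K247.RelDim

/-!
# The classes `O(Γ_x - σ)` of a smooth relative curve with a section

* `degAt_acl`: they have fibre degree zero;
* `exists_prod_acl`: over an algebraically closed field valued point of the base every class in `Pic⁰` is a product of
  `n` of them, for `n` at least the genus.
-/

set_option autoImplicit false
universe u
open CategoryTheory CategoryTheory.Limits AlgebraicGeometry Opposite TopologicalSpace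

namespace K247.AbelDeg

open Groth.Agent Groth.Agent.Grpsch Groth.Agent.Grpsch.PicGrp Groth.Agent.Fga.RigGrp Groth.Agent.Fga.JacSurj
  Groth.Agent.Picfga.ChiDef K247.DegFn K247.FibDeg Groth.Agent.Fga.JacSum K247.BC K247.GclBC K247.AbelSurj
  K530.PicZero

variable {C S : Scheme.{u}} (f : C ⟶ S)

section chi

theorem degAt_one (T : Over S) (t : T.left) : degAt f T t 1 = 0 := sub_self _

/-- The Euler characteristic of a class on the fibre over a field valued point. -/
theorem chiK_eq_chiAt [QuasiCompact f] [QuasiSeparated f] {K : Type u} [Field K]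
    (t : Spec (CommRingCat.of K) ⟶ S) (c : Pic (PicF.XT f (Over.mk t))) (τ : Spec (CommRingCat.of K)) :
    chiK f t c = chiAt f (Over.mk t) τ c := by
  have h1 := chiPt_eq_chiAt (f := f) (Fga.JacFib.bcStep f) (Over.mk t) (𝟙 (Spec (CommRingCat.of K))) τ
    (fun z => Subsingleton.elim (α := PrimeSpectrum K) _ _) c
  rw [← h1, chiPt]
  have h2 := chiK_congr (f := f) (Category.id_comp t).symm (T := Over.mk t) (𝟙 _)
    (ofHom (Over.mk t) (𝟙 (Spec (CommRingCat.of K)))) rfl c
  rw [XTmap_id, pull_id] at h2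
  exact h2

theorem chiK_one_eq_chiAt [QuasiCompact f] [QuasiSeparated f] {K : Type u} [Field K]
    (t : Spec (CommRingCat.of K) ⟶ S) (τ : Spec (CommRingCat.of K)) :
    chiK f t 1 = chiAt f (Over.mk (𝟙 S)) (t τ) 1 := by
  rw [chiK_eq_chiAt f t 1 τ]
  let h : Over.mk t ⟶ Over.mk (𝟙 S) := Over.homMk t (Category.comp_id _)
  have h1 := chiAt_pull (f := f) (Fga.JacFib.bcStep f) h τ 1
  rw [map_one] at h1
  exact h1

/-- Euler characteristics and base change. -/
theorem chiK_cmp [QuasiCompact f] [QuasiSeparated f] {S' : Scheme.{u}} (b : S' ⟶ S) {K : Type u} [Field K]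
    (t : Spec (CommRingCat.of K) ⟶ S') (c : Pic (PicF.XT f (dn b (Over.mk t)))) :
    chiK (pullback.snd f b) t (pull (cmp f b (Over.mk t)) c) = chiK f (t ≫ b) c := by
  obtain ⟨L, hL, rfl⟩ := exists_mk c
  rw [pull_mk]
  have hq : QuasiCompact (PicF.XTproj f (dn b (Over.mk t))) :=
    inferInstanceAs (QuasiCompact (pullback.snd f (t ≫ b)))
  have hs : QuasiSeparated (PicF.XTproj f (dn b (Over.mk t))) :=
    inferInstanceAs (QuasiSeparated (pullback.snd f (t ≫ b)))
  have h1 : CompactSpace (PicF.XT f (dn b (Over.mk t))) :=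
    QuasiCompact.compactSpace_of_compactSpace (Y := Spec (CommRingCat.of K)) (PicF.XTproj f (dn b (Over.mk t)))
  have h2 : QuasiSeparatedSpace (PicF.XT f (dn b (Over.mk t))) :=
    quasiSeparatedSpace_of_quasiSeparated (Y := Spec (CommRingCat.of K)) (PicF.XTproj f (dn b (Over.mk t)))
  exact Picfga.ChiBC.eulerCharLE_iso K (PicF.XTproj f (dn b (Over.mk t))) (PicF.XTproj (pullback.snd f b) (Over.mk t))
    (asIso (cmp f b (Over.mk t))) (cmp_snd f b (Over.mk t)) L (Ega2.QCohLocal.isQCoh_of_isInvertible hL) 1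

theorem chiK_one_bc [QuasiCompact f] [QuasiSeparated f] {S' : Scheme.{u}} (b : S' ⟶ S) {K : Type u} [Field K]
    (t : Spec (CommRingCat.of K) ⟶ S') : chiK (pullback.snd f b) t 1 = chiK f (t ≫ b) 1 := by
  rw [← chiK_cmp, map_one]

theorem np_eq [QuasiCompact f] [QuasiSeparated f] {K : Type u} [Field K] (t : Spec (CommRingCat.of K) ⟶ S) :
    np (pullback.snd f t) = (1 - chiAt f (Over.mk (𝟙 S)) (t (IsLocalRing.closedPoint K)) 1).toNat := by
  rw [np, chiK_one_bc, chiK_one_eq_chiAt f _ (IsLocalRing.closedPoint K), Category.id_comp]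

end chi

variable [IsProper f] [Smooth f] [GeometricallyConnected f] (hdim : ∀ s : S, topologicalKrullDim ↥(f.fiber s) = 1)
  [SmoothOfRelativeDimension 1 f]

section sec

variable (σ : S ⟶ C) (hσ : σ ≫ f = 𝟙 S)

omit [IsProper f] [Smooth f] [GeometricallyConnected f] [SmoothOfRelativeDimension 1 f] in
/-- The tautological point. -/
def xu : Pt f (Over.mk f) := ⟨𝟙 C, Category.id_comp _⟩

include hdim in
theorem degAt_acl_univ (y : C) : degAt f (Over.mk f) y (acl f σ hσ (xu f)) = 0 := by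
  have hlc := isLocallyConstant_degAt f hdim (Over.mk f) (acl f σ hσ (xu f))
  let s : S := f y
  have hc : ConnectedSpace (f.fiber s) :=
    GeometricallyConnected.geometrically_connectedSpace (f := f) _ _ _ (.of_hasPullback _ _)
  have hmem : ∀ y' : C, f y' = s → ∃ z : f.fiber s, f.fiberι s z = y' := by
    intro y' hy'
    have h3 := f.range_fiberι s
    have h4 : y' ∈ Set.range (f.fiberι s) := by rw [h3]; exact hy'
    exact h4
  obtain ⟨z₁, hz₁⟩ := hmem y rfl
  obtain ⟨z₂, hz₂⟩ := hmem (σ s) (by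
    rw [← Scheme.Hom.comp_apply, hσ]; rfl)
  have h1 : degAt f (Over.mk f) y (acl f σ hσ (xu f)) = degAt f (Over.mk f) (σ s) (acl f σ hσ (xu f)) := by
    have h2 : IsLocallyConstant
        (fun z : f.fiber s => degAt f (Over.mk f) (f.fiberι s z) (acl f σ hσ (xu f))) :=
      hlc.comp_continuous (f.fiberι s).continuous
    have h3 := h2.apply_eq_of_preconnectedSpace z₁ z₂
    rwa [hz₁, hz₂] at h3
  rw [h1]
  let g : Over.mk (𝟙 S) ⟶ Over.mk f := Over.homMk σ hσ
  have h3 := degAt_pull f g s (acl f σ hσ (xu f))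
  rw [pull_acl] at h3
  have h4 : (xu f).comp g = Pt.ofSection hσ (Over.mk (𝟙 S)) := Subtype.ext (by simp [xu, Pt.ofSection, Pt.comp, g])
  have h5 : acl f σ hσ (Pt.ofSection hσ (Over.mk (𝟙 S))) = 1 := by rw [acl, inv_mul_cancel, map_one]
  rw [h4, h5, degAt_one] at h3
  exact h3.symm

include hdim in
theorem degAt_acl {T : Over S} (x : Pt f T) (t : T.left) : degAt f T t (acl f σ hσ x) = 0 := by
  let g : T ⟶ Over.mk f := Over.homMk x.1 x.2
  have h1 : (xu f).comp g = x := Subtype.ext (Category.comp_id _)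
  rw [← h1, ← pull_acl, degAt_pull]
  exact degAt_acl_univ f hdim σ hσ _

include hdim in
theorem fibZero_prod_acl {T : Over S} {n : ℕ} (x : Fin n → Pt f T) :
    FibZero (PicF.XTproj f T) (∏ i, acl f σ hσ (x i)) :=
  Finset.prod_induction _ (FibZero (PicF.XTproj f T)) (fun _ _ ha hb => FibZero.mul ha hb) (FibZero.one _)
    (fun i _ => (fibZero_iff f hdim T _).2 (degAt_acl f hdim σ hσ (x i)))

include hdim in
/-- Over a geometric point, every `Pic⁰` class is a product of `n` classes `O(x - σ)`, for `n` at least the genus. -/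
theorem exists_prod_acl {Ω : Type u} [Field Ω] [IsAlgClosed Ω] (t : Spec (CommRingCat.of Ω) ⟶ S)
    (c : Pic (PicF.XT f (dn t (Over.mk (𝟙 (Spec (CommRingCat.of Ω)))))))
    (hc : FibZero (PicF.XTproj f (dn t (Over.mk (𝟙 (Spec (CommRingCat.of Ω)))))) c) (n : ℕ)
    (hn : np (pullback.snd f t) ≤ n) :
    ∃ x : Fin n → Pt f (dn t (Over.mk (𝟙 (Spec (CommRingCat.of Ω))))), c = ∏ i, acl f σ hσ (x i) := by
  let T' : Over (Spec (CommRingCat.of Ω)) := Over.mk (𝟙 (Spec (CommRingCat.of Ω)))
  let f' := pullback.snd f t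
  let c' : Pic (PicF.XT f' T') := pull (cmp f t T') c
  have hd : topologicalKrullDim ↑(pullback f t) = 1 := by
    rw [Flat2G.ProperDim.topologicalKrullDim_field_point f (Field.toIsField Ω) (pullback.snd f t)
      (pullback.fst f t) t (IsPullback.of_hasPullback f t) (IsLocalRing.closedPoint Ω)]
    exact hdim _
  have hconn : ConnectedSpace ↑(pullback f t) :=
    GeometricallyConnected.geometrically_connectedSpace (f := f) _ _ _ (.of_hasPullback _ _)
  have hdim' : ∀ s, topologicalKrullDim ↥(f'.fiber s) = 1 := fun s =>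
    (Flat2G.ProperDim.topologicalKrullDim_fiber_baseChange f f' (pullback.fst f t) t
      (IsPullback.of_hasPullback f t) s).trans (hdim _)
  have hrel : SmoothOfRelativeDimension 1 f' := K247.RelDim.curve f' hdim'
  let σ' : Spec (CommRingCat.of Ω) ⟶ pullback f t := pullback.lift (t ≫ σ) (𝟙 _) (by
    rw [Category.assoc, hσ, Category.comp_id, Category.id_comp])
  have hσ' : σ' ≫ f' = 𝟙 _ := pullback.lift_snd _ _ _
  have htr : tr f t T' c' = c := tr_cmp f t T' c
  have hc' : FibZero (PicF.XTproj f' T') c' := by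
    rw [← isPicZeroCl_toCl_iff, ← isPicZeroCl_tr_iff, htr, isPicZeroCl_toCl_iff]
    exact hc
  have hchi : chiK f' (𝟙 _) c' = chiK f' (𝟙 _) 1 := by
    have h1 := (fibZero_iff f' hdim' T' c').1 hc' (IsLocalRing.closedPoint Ω)
    rw [chiK_eq_chiAt f' (𝟙 _) c' (IsLocalRing.closedPoint Ω), chiK_eq_chiAt f' (𝟙 _) 1 (IsLocalRing.closedPoint Ω)]
    exact sub_eq_zero.1 h1
  obtain ⟨x', hx'⟩ := AbelSurj.exists_points f' hd σ' hσ' hrel c' hchi n hn
  refine ⟨fun i => dnPt f t (x' i), ?_⟩
  rw [← htr, hx', tr, map_prod]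
  refine Finset.prod_congr rfl fun i _ => ?_
  have h1 : acl f' σ' hσ' (x' i) = (gcl f' (x' i))⁻¹ * gcl f' (Pt.ofSection hσ' T') :=
    Fga.JacAlg.acl_field f' σ' hσ' Ω (𝟙 _) (x' i)
  have h2 : acl f σ hσ (dnPt f t (x' i)) = (gcl f (dnPt f t (x' i)))⁻¹ * gcl f (Pt.ofSection hσ (dn t T')) :=
    Fga.JacAlg.acl_field f σ hσ Ω (𝟙 _ ≫ t) (dnPt f t (x' i))
  have h3 : dnPt f t (Pt.ofSection hσ' T') = Pt.ofSection hσ (dn t T') := by
    apply Subtype.ext
    change (T'.hom ≫ σ') ≫ pullback.fst f t = (T'.hom ≫ t) ≫ σ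
    rw [Category.assoc, Category.assoc]
    exact congrArg _ (pullback.lift_fst _ _ _)
  have h4 := tr_gcl f t (T := T') (x' i)
  have h5 := tr_gcl f t (T := T') (Pt.ofSection hσ' T')
  rw [tr] at h4 h5
  rw [h1, h2, map_mul, map_inv, h4, h5, h3]

end sec

end K247.AbelDeg
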