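import Groth.Agent.Sga7.H598.GaLine
import Groth.Agent.HTop.K344.SemiScheme
import Mathlib.AlgebraicGeometry.AffineSpace

/-!
# The Picard group of the affine line over a seminormal scheme
-/

set_option autoImplicit false
universe u

open CategoryTheory AlgebraicGeometry Limits

namespace K247.AffLine

open Groth.Agent Groth.Agent.Sga7.H598.SNDef Groth.Agent.Sga7.H598.LineDesc Groth.Agent.Sga7.H598.GaLine
open Groth.Agent.Grpsch.PicGrp Groth.Agent.Sga3B.GaPts

/-- The affine line of Mathlib and the additive group. -/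
theorem exists_iso (S : Scheme.{u}) : ∃ e : 𝔸(PUnit.{u + 1}; S) ≅ (Red.Ga S).left,
    e.hom ≫ (Red.Ga S).hom = 𝔸(PUnit.{u + 1}; S) ↘ S := by
  let A : Over S := Over.mk (𝔸(PUnit.{u + 1}; S) ↘ S)
  let a : A ⟶ Red.Ga S := gaPt A (AffineSpace.coord S PUnit.unit)
  let b : Red.Ga S ⟶ A := Over.homMk (AffineSpace.homOfVector (Red.Ga S).hom
    (fun _ : PUnit.{u + 1} => Red.gaFn (𝟙 (Red.Ga S)))) (AffineSpace.homOfVector_over _ _)
  have hb : b.left.appTop (AffineSpace.coord S PUnit.unit) = Red.gaFn (𝟙 (Red.Ga S)) :=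
    AffineSpace.homOfVector_appTop_coord _ _ _
  have ha : a.left.appTop (Red.gaFn (𝟙 (Red.Ga S))) = AffineSpace.coord S PUnit.unit := by
    rw [← gaFn_comp, Category.comp_id, gaFn_gaPt]
  have h1 : a ≫ b = 𝟙 A := by
    apply Over.OverMorphism.ext
    apply AffineSpace.hom_ext
    · exact Over.w (a ≫ b) |>.trans (Over.w (𝟙 A)).symm
    · rintro ⟨⟩
      rw [Over.comp_left, Scheme.Hom.comp_appTop, ConcreteCategory.comp_apply, hb, ha]
      rw [Over.id_left]
      exact (congr($(Scheme.Hom.id_appTop (X := A.left)) (AffineSpace.coord S PUnit.unit))).symm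
  have h2 : b ≫ a = 𝟙 (Red.Ga S) := by
    apply gaFn_injective
    rw [gaFn_comp, gaFn_gaPt, hb]
  exact ⟨(Over.forget S).mapIso ⟨a, b, h1, h2⟩, Over.w a⟩

theorem sn_of_isSeminormalRing {A : Type u} [CommRing A] (h : HTop.IsSeminormalRing A) : SN A := by
  intro b c hbc
  obtain ⟨a, ⟨h1, h2⟩, -⟩ := h c b hbc.symm
  exact ⟨a, h2.symm, h1.symm⟩

theorem surjective_pull {S X : Scheme.{u}} (f : X ⟶ S) [IsLocallyNoetherian X] [IsReduced X] (hX : HTop.IsSeminormal X) :
    Function.Surjective (pull (pullback.fst f (𝔸(PUnit.{u + 1}; S) ↘ S))) := by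
  have hSN : ∀ U : X.Opens, IsAffineOpen U → SN Γ(X, U) := fun U hU =>
    sn_of_isSeminormalRing ((K344.SemiScheme.isSeminormal_iff X).1 hX ⟨U, hU⟩)
  obtain ⟨e, he⟩ := exists_iso S
  let E : pullback f (𝔸(PUnit.{u + 1}; S) ↘ S) ⟶ pullback f (Red.Ga S).hom :=
    pullback.map f _ f _ (𝟙 _) e.hom (𝟙 _) (by simp) (by
      rw [Category.comp_id]; exact he.symm)
  have hE : E ≫ pullback.fst f (Red.Ga S).hom = pullback.fst f (𝔸(PUnit.{u + 1}; S) ↘ S) := by
    rw [pullback.lift_fst, Category.comp_id]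
  have hEi : IsIso E := inferInstance
  intro c
  obtain ⟨L, hL, hc⟩ := exists_mk (pull (inv E) c)
  obtain ⟨M, hM, ⟨i⟩⟩ := (isLine f).exists_descent hSN hL
  refine ⟨mk M hM, ?_⟩
  rw [← hE, pull_comp]
  have h1 : pull (pullback.fst f (Red.Ga S).hom) (mk M hM) = pull (inv E) c := by
    rw [hc, pull_mk]
    exact mk_congr i
  rw [h1, ← pull_comp, IsIso.hom_inv_id, pull_id]

/-- The zero section. -/
theorem exists_section {S X : Scheme.{u}} (f : X ⟶ S) :
    ∃ s : X ⟶ pullback f (𝔸(PUnit.{u + 1}; S) ↘ S), s ≫ pullback.fst f (𝔸(PUnit.{u + 1}; S) ↘ S) = 𝟙 X :=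
  ⟨pullback.lift (𝟙 X) (AffineSpace.homOfVector f (fun _ => 0)) (by
    rw [Category.id_comp, AffineSpace.homOfVector_over]), pullback.lift_fst _ _ _⟩

theorem injective_pull {S X : Scheme.{u}} (f : X ⟶ S) :
    Function.Injective (pull (pullback.fst f (𝔸(PUnit.{u + 1}; S) ↘ S))) := by
  obtain ⟨s, hs⟩ := exists_section f
  intro c c' h
  have := congrArg (pull s) h
  rwa [← pull_comp, ← pull_comp, hs, pull_id, pull_id] at this

end K247.AffLine
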