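import Groth.Agent.Ega4dA.FlatDesc
import Groth.Agent.Pi1A.DepthSpread

/-!
# Descent of extendability of invertible modules over big opens
-/

set_option autoImplicit false
universe u
open CategoryTheory CategoryTheory.Limits AlgebraicGeometry TopologicalSpace Opposite TensorProduct
open Groth.Agent.Ega4dA.GenSec Groth.Agent.Ega4dA.ParaCrit Groth.Agent.Ega4dA.ParaBig
open Groth.Agent.Ega4dA.FlatBC Groth.Agent.Ega4dA.FlatDesc

namespace K247.ExtDesc

variable {X X' : Scheme.{u}}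

/-- `Ega4dA.FlatDesc.exists_gen_near` for one module: a local generator of the pull back off `f⁻¹ U` near a point
of `X'` gives one near its image (flat descent, functions extending uniquely off `f⁻¹ U`). -/
theorem exists_gen_near (f : X' ⟶ X) [Flat f] {U : X.Opens}
    (hU : ∀ V : X.Opens, IsAffineOpen V → IsCompact ((V ⊓ U : X.Opens) : Set X))
    (h : FunExt X' (f ⁻¹ᵁ U))
    {V : X.Opens} (hV : IsAffineOpen V) (F : X.Modules) (hF : InvOn F (V ⊓ U)) (y : X) (hy : y ∈ V)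
    (y' : X') (hy' : f y' = y) {W' : X'.Opens} (hW'V : W' ≤ f ⁻¹ᵁ V) (hyW' : y' ∈ W')
    (s' : Γ((Scheme.Modules.pullback f).obj F, W' ⊓ f ⁻¹ᵁ U))
    (hs' : IsGen ((Scheme.Modules.pullback f).obj F) (W' ⊓ f ⁻¹ᵁ U) s') :
    ∃ W : X.Opens, W ≤ V ∧ y ∈ W ∧ ∃ s : Γ(F, W ⊓ U), IsGen F (W ⊓ U) s := by
  classical
  let F' := (Scheme.Modules.pullback f).obj F
  obtain ⟨_, ⟨V', hV', rfl⟩, hyV', hV'W⟩ := X'.isBasis_affineOpens.exists_subset_of_mem_open
    hyW' W'.isOpen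
  have hV'W' : V' ≤ W' := hV'W
  have e : V' ≤ f ⁻¹ᵁ V := hV'W'.trans hW'V
  have hR'V : V' ⊓ f ⁻¹ᵁ (V ⊓ U) ≤ V' := inf_le_left
  have hle1 : V' ⊓ f ⁻¹ᵁ (V ⊓ U) ≤ W' ⊓ f ⁻¹ᵁ U := by
    rintro x ⟨hx1, -, hx2⟩; exact ⟨hV'W' hx1, hx2⟩
  have hR' : V' ⊓ f ⁻¹ᵁ U = V' ⊓ f ⁻¹ᵁ (V ⊓ U) := by
    apply le_antisymm
    · rintro x ⟨hx1, hx2⟩; exact ⟨hx1, e hx1, hx2⟩
    · rintro x ⟨hx1, -, hx2⟩; exact ⟨hx1, hx2⟩
  have hbij : Function.Bijective (resO X' hR'V) := by
    have key : ∀ (W W' : X'.Opens) (e : W = W') (h1 : W ≤ V') (h2 : W' ≤ V'),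
      Function.Bijective (resO X' h1) → Function.Bijective (resO X' h2) := by
      intro W W' e; subst e; intro _ _ h; exact h
    exact key _ _ hR' inf_le_left inf_le_left (h V')
  set s'' := res F' hle1 s' with hs''def
  have hs'' : IsGen F' (V' ⊓ f ⁻¹ᵁ (V ⊓ U)) s'' := hs'.mono hle1
  -- a section `m` of `F` over `V ⊓ U` whose pullback generates near `y'`
  obtain ⟨m, b, hmb, hyb⟩ : ∃ (m : Γ(F, V ⊓ U)) (b : Γ(X', V')),
      pull f F inf_le_right m = resO X' hR'V b • s'' ∧ y' ∈ X'.basicOpen b := by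
    by_contra hcon
    push Not at hcon
    let i1 := alg f e
    let i2 := modBase f e F' hR'V
    have i3 := isScalarTower_modBase f e F' hR'V
    have hb := isBaseChange_pullL f e hV hV' (f.flat_appLE hV hV' e) F inf_le_left (hU V hV) hF
    have hall : ∀ z : Sec F' hR'V, ∃ b : Γ(X', V'), z = (resO X' hR'V b • s'' : Γ(F', _)) ∧
        b ∈ (hV'.primeIdealOf ⟨y', hyV'⟩).asIdeal := by
      intro z
      refine hb.inductionOn z _ ⟨0, ?_, Ideal.zero_mem _⟩ ?_ ?_ ?_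
      · rw [resO_zero, zero_smul]; rfl
      · intro m
        obtain ⟨c, hc⟩ := hs''.exists_eq' (pull f F inf_le_right m)
        obtain ⟨b, rfl⟩ := hbij.2 c
        exact ⟨b, hc.symm, (mem_primeIdealOf_iff hV' _ _).mpr (hcon m b hc.symm)⟩
      · rintro a z ⟨b, rfl, hb⟩
        refine ⟨a * b, ?_, Ideal.mul_mem_left _ _ hb⟩
        rw [Sec.smul_def, resO_mul, mul_smul]
      · rintro z₁ z₂ ⟨b₁, rfl, hb₁⟩ ⟨b₂, rfl, hb₂⟩
        refine ⟨b₁ + b₂, ?_, Ideal.add_mem _ hb₁ hb₂⟩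
        rw [resO_add, add_smul]; rfl
    obtain ⟨b, hb1, hb2⟩ := hall s''
    have h1 : resO X' hR'V b = resO X' hR'V 1 := by
      rw [resO_one]
      exact hs''.injective' (by rw [one_smul]; exact hb1.symm)
    have h2 : b = 1 := hbij.1 h1
    rw [h2] at hb2
    exact (hV'.primeIdealOf ⟨y', hyV'⟩).isPrime.ne_top ((Ideal.eq_top_iff_one _).mpr hb2)
  -- a finite cover of `V ⊓ U` by basic opens with generators
  have h1 : ∀ x : (V ⊓ U : X.Opens), ∃ g : Γ(X, V), x.1 ∈ X.basicOpen g ∧ X.basicOpen g ≤ V ⊓ U ∧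
      ∃ s : Γ(F, X.basicOpen g), IsGen F (X.basicOpen g) s := by
    rintro ⟨x, hx⟩
    obtain ⟨W, hWR, hxW, s, hs⟩ := hF x hx
    obtain ⟨g, hg, hxg⟩ := hV.exists_basicOpen_le ⟨x, hxW⟩ hx.1
    exact ⟨g, hxg, hg.trans hWR, res F hg s, hs.mono hg⟩
  choose g hxg hgR ε hε using h1
  obtain ⟨t, ht⟩ := (hU V hV).elim_finite_subcover
    (fun x : (V ⊓ U : X.Opens) => (X.basicOpen (g x) : Set X))
    (fun x => (X.basicOpen (g x)).isOpen) (fun x hx => Set.mem_iUnion.mpr ⟨⟨x, hx⟩, hxg ⟨x, hx⟩⟩)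
  -- the coefficient of `m` on each member of the cover is invertible near `y`
  have h2 : ∀ i : (V ⊓ U : X.Opens), ∃ a : Γ(X, V), y ∈ X.basicOpen a ∧ ∃ c : Γ(X, X.basicOpen (g i)),
      res F (hgR i) m = c • ε i ∧
      IsUnit (resO X (inf_le_left : X.basicOpen (g i) ⊓ X.basicOpen a ≤ X.basicOpen (g i)) c) := by
    intro i
    obtain ⟨c, hc⟩ := (hε i).exists_eq' (res F (hgR i) m)
    have hD : IsAffineOpen (X.basicOpen (g i)) := hV.basicOpen (g i)
    have hDV : X.basicOpen (g i) ≤ V := X.basicOpen_le (g i)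
    let M₀ : Submonoid Γ(X, V) :=
      { carrier := {a | y ∈ X.basicOpen a}
        mul_mem' := fun {a b} ha hb => by
          change y ∈ X.basicOpen (a * b)
          rw [Scheme.basicOpen_mul]
          exact ⟨ha, hb⟩
        one_mem' := by
          change y ∈ X.basicOpen (1 : Γ(X, V))
          rw [Scheme.basicOpen_of_isUnit _ isUnit_one]
          exact hy }
    let ρ : Γ(X, V) →+* Γ(X, X.basicOpen (g i)) := (X.presheaf.map (homOfLE hDV).op).hom
    obtain ⟨b', hb'⟩ := exists_mul_mem (M₀.map ρ) c (by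
      intro P hP hPM hcP
      let x := hD.fromSpec ⟨P, hP⟩
      have hxD : x ∈ X.basicOpen (g i) := fromSpec_mem hD _
      have hxy : x ⤳ y := by
        rw [specializes_iff_forall_open]
        intro W hW hyW
        obtain ⟨a, haW, hya⟩ := hV.exists_basicOpen_le (V := ⟨W, hW⟩) ⟨y, hyW⟩ hy
        have h3 : ρ a ∉ P := Set.disjoint_right.mp hPM ⟨a, hya, rfl⟩
        have h4 : x ∈ X.basicOpen (ρ a) := (fromSpec_mem_basicOpen_iff hD _ _).mpr h3
        have h5 : X.basicOpen (ρ a) = X.basicOpen (g i) ⊓ X.basicOpen a := X.basicOpen_res a (homOfLE hDV).op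
        rw [h5] at h4
        exact haW h4.2
      have hxy' : x ⤳ f y' := by rw [hy']; exact hxy
      obtain ⟨x', hx'y', hx'⟩ := Flat.generalizingMap f hxy'
      have hx'V : x' ∈ X'.basicOpen b := hx'y'.mem_open (X'.basicOpen b).isOpen hyb
      let O : X'.Opens := X'.basicOpen b ⊓ f ⁻¹ᵁ X.basicOpen (g i)
      have hx'O : x' ∈ O := ⟨hx'V, by change f x' ∈ X.basicOpen (g i); rw [hx']; exact hxD⟩
      have hOR : O ≤ V' ⊓ f ⁻¹ᵁ (V ⊓ U) :=
        le_inf (inf_le_left.trans (X'.basicOpen_le b)) (inf_le_right.trans (f.preimage_mono (hgR i)))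
      have hOD : O ≤ f ⁻¹ᵁ X.basicOpen (g i) := inf_le_right
      have hgen1 : IsGen F' O (res F' hOR (pull f F inf_le_right m)) := by
        rw [hmb, res_smul]
        refine (hs''.mono hOR).smul ?_
        rw [resO_resO]
        exact isUnit_resO_basicOpen b _ inf_le_left
      have hgen2 : IsGen F' O (pull f F hOD (ε i)) := isGen_pull f F hOD (hε i)
      have h6 : res F' hOR (pull f F inf_le_right m) = f.appLE _ O hOD c • pull f F hOD (ε i) := by
        rw [res_pull f F inf_le_right (hgR i) hOR hOD, ← hc, pull_smul]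
      rw [h6] at hgen1
      have h7 := isUnit_of_isGen_smul hgen2 hgen1
      have h8 := Scheme.basicOpen_of_isUnit _ h7
      have h9 : x' ∈ X'.basicOpen (f.appLE _ O hOD c) := by rw [h8]; exact hx'O
      rw [Scheme.basicOpen_appLE] at h9
      have h10 : f x' ∈ X.basicOpen c := h9.2
      rw [hx'] at h10
      exact (fromSpec_mem_basicOpen_iff hD _ _).mp h10 hcP)
    obtain ⟨a, hya, hab⟩ := hb'
    refine ⟨a, hya, c, hc.symm, ?_⟩
    have h3 : IsUnit (resO X (inf_le_left.trans hDV : X.basicOpen (g i) ⊓ X.basicOpen a ≤ V) a) :=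
      isUnit_resO_basicOpen a _ inf_le_right
    have h4 : resO X (inf_le_left.trans hDV : X.basicOpen (g i) ⊓ X.basicOpen a ≤ V) a =
        resO X inf_le_left c * resO X inf_le_left b' := by
      rw [← resO_mul, ← hab]
      exact (resO_resO (X := X) hDV inf_le_left a).symm
    rw [h4] at h3
    exact isUnit_of_mul_isUnit_left h3
  choose a hya c hc hcu using h2
  have hW : y ∈ X.basicOpen (∏ i ∈ t, a i) := by
    by_contra hcon
    have h3 := (mem_primeIdealOf_iff hV ⟨y, hy⟩ _).mpr hcon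
    obtain ⟨i, -, hi⟩ := (Ideal.IsPrime.prod_mem_iff).mp h3
    exact (mem_primeIdealOf_iff hV ⟨y, hy⟩ _).mp hi (hya i)
  have hWa : ∀ i ∈ t, X.basicOpen (∏ i ∈ t, a i) ≤ X.basicOpen (a i) := by
    intro i hi
    rw [← Finset.mul_prod_erase t a hi, Scheme.basicOpen_mul]
    exact inf_le_left
  have hWV : X.basicOpen (∏ i ∈ t, a i) ≤ V := X.basicOpen_le _
  refine ⟨X.basicOpen (∏ i ∈ t, a i), hWV, hW, res F (inf_le_inf_right U hWV) m, ?_⟩
  refine isGen_of_cover fun x hx => ?_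
  obtain ⟨i, hi, hxi⟩ := Set.mem_iUnion₂.mp (ht ⟨hWV hx.1, hx.2⟩)
  have hle2 : X.basicOpen (g i) ⊓ X.basicOpen (∏ i ∈ t, a i) ≤ X.basicOpen (∏ i ∈ t, a i) ⊓ U :=
    le_inf inf_le_right (inf_le_left.trans ((hgR i).trans inf_le_right))
  refine ⟨X.basicOpen (g i) ⊓ X.basicOpen (∏ i ∈ t, a i), hle2, ⟨hxi, hx.1⟩, ?_⟩
  have h3 : res F hle2 (res F (inf_le_inf_right U hWV) m) =
      (resO X (inf_le_left : X.basicOpen (g i) ⊓ X.basicOpen (∏ i ∈ t, a i) ≤ X.basicOpen (g i)) (c i) •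
        res F inf_le_left (ε i) : Γ(F, X.basicOpen (g i) ⊓ X.basicOpen (∏ i ∈ t, a i))) := by
    rw [← res_smul, ← hc, res_res, res_res]
  rw [h3]
  refine ((hε i).mono inf_le_left).smul ?_
  have h4 : resO X (inf_le_left : X.basicOpen (g i) ⊓ X.basicOpen (∏ i ∈ t, a i) ≤ _) (c i) =
      resO X (inf_le_inf_left _ (hWa i hi)) (resO X inf_le_left (c i)) := by rw [resO_resO]
  rw [h4]
  exact (hcu i).map (X.presheaf.map (homOfLE _).op).hom

/-- Transport of local generators through an isomorphism over an open. -/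
theorem exists_isGen_of_restrict_iso {M N : X.Modules} (U : X.Opens)
    (e : M.restrict U.ι ≅ N.restrict U.ι) {W : X.Opens} (s : Γ(M, W)) (hs : IsGen M W s) :
    ∃ t : Γ(N, W ⊓ U), IsGen N (W ⊓ U) t := by
  have hle : U.ι ''ᵁ (U.ι ⁻¹ᵁ W) ≤ W := U.ι.image_preimage_le W
  have hle' : W ⊓ U ≤ U.ι ''ᵁ (U.ι ⁻¹ᵁ W) := by
    rw [Scheme.Hom.image_preimage_eq_opensRange_inf, Scheme.Opens.opensRange_ι, inf_comm]
  let s₁ : Γ(M.restrict U.ι, U.ι ⁻¹ᵁ W) := (show Γ(M, U.ι ''ᵁ (U.ι ⁻¹ᵁ W)) from res M hle s)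
  have hs₁ : IsGen (M.restrict U.ι) (U.ι ⁻¹ᵁ W) s₁ := by
    rw [isGen_restrict_iff]
    exact hs.mono hle
  have hs₂ := hs₁.app e.hom
  rw [isGen_restrict_iff] at hs₂
  exact ⟨_, hs₂.mono hle'⟩

/-- Restriction and pull back. -/
theorem restrict_pullback_iso (f : X' ⟶ X) (V : X.Opens) (F : X.Modules) :
    Nonempty (((Scheme.Modules.pullback f).obj F).restrict (f ⁻¹ᵁ V).ι ≅
      (Scheme.Modules.pullback (f ∣_ V)).obj ((Scheme.Modules.pullback V.ι).obj F)) :=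
  ⟨(Scheme.Modules.restrictFunctorIsoPullback (f ⁻¹ᵁ V).ι).app _ ≪≫
    (Scheme.Modules.pullbackComp (f ⁻¹ᵁ V).ι f).app F ≪≫
    (Scheme.Modules.pullbackCongr (morphismRestrict_ι f V).symm).app F ≪≫
    ((Scheme.Modules.pullbackComp (f ∣_ V) V.ι).app F).symm⟩

/-- An invertible module on a big open extends if its pull back along a flat surjective morphism does. -/
theorem isInvertible_pushforward [IsLocallyNoetherian X] (φ : X' ⟶ X) [Flat φ] [Surjective φ]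
    (V : X.Opens) (hV : ∀ x : X, x ∉ V → 2 ≤ LocCoh.depth (X.presheaf.stalk x) (X.presheaf.stalk x))
    (L : (V : Scheme.{u}).Modules) (hL : PicF.IsInvertible L)
    (M' : X'.Modules) (hM' : PicF.IsInvertible M')
    (e : (Scheme.Modules.pullback (φ ⁻¹ᵁ V).ι).obj M' ≅ (Scheme.Modules.pullback (φ ∣_ V)).obj L) :
    PicF.IsInvertible ((Scheme.Modules.pushforward V.ι).obj L) := by
  have hX : FunExt X V := fun W => Groth.Agent.Pi1A.DepthSpread.bijective_res_of_depth V hV (𝟙 X) W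
  have hX' : FunExt X' (φ ⁻¹ᵁ V) := fun W => Groth.Agent.Pi1A.DepthSpread.bijective_res_of_depth V hV φ W
  have hfun : FunBij V.ι := by
    rw [funBij_iff, Scheme.Opens.opensRange_ι]
    exact hX
  let F := (Scheme.Modules.pushforward V.ι).obj L
  obtain ⟨e₁⟩ := nonempty_restrict_pushforward_iso V.ι L
  obtain ⟨e₂⟩ := restrict_pullback_iso φ V F
  have e₃ : M'.restrict (φ ⁻¹ᵁ V).ι ≅ ((Scheme.Modules.pullback φ).obj F).restrict (φ ⁻¹ᵁ V).ι :=
    (Scheme.Modules.restrictFunctorIsoPullback (φ ⁻¹ᵁ V).ι).app _ ≪≫ e ≪≫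
      (Scheme.Modules.pullback (φ ∣_ V)).mapIso (e₁.symm ≪≫ (Scheme.Modules.restrictFunctorIsoPullback V.ι).app F) ≪≫
      e₂.symm
  have hFV : InvOn F V := by
    have := invOn_pushforward V.ι hL
    rwa [Scheme.Opens.opensRange_ι] at this
  have hc : ∀ W : X.Opens, IsAffineOpen W → IsCompact ((W ⊓ V : X.Opens) : Set X) := by
    intro W hW
    have : IsNoetherian (W : Scheme.{u}) := by
      have : IsAffine (W : Scheme.{u}) := hW
      have : IsLocallyNoetherian (W : Scheme.{u}) := isLocallyNoetherian_of_isOpenImmersion W.ι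
      exact {}
    have h1 : IsCompact ((W.ι ⁻¹ᵁ V : (W : Scheme.{u}).Opens) : Set (W : Scheme.{u})) :=
      TopologicalSpace.NoetherianSpace.isCompact _
    have h2 := h1.image W.ι.continuous
    convert h2 using 1
    change _ = ((W.ι ''ᵁ (W.ι ⁻¹ᵁ V) : X.Opens) : Set X)
    rw [Scheme.Hom.image_preimage_eq_opensRange_inf, Scheme.Opens.opensRange_ι]
  rw [isInvertible_pushforward_iff V.ι hfun]
  intro x
  obtain ⟨x', hx'⟩ := φ.surjective x
  obtain ⟨_, ⟨W, hW, rfl⟩, hxW, -⟩ := X.isBasis_affineOpens.exists_subset_of_mem_open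
    (show x ∈ (⊤ : X.Opens) from trivial) (⊤ : X.Opens).isOpen
  obtain ⟨W₁, hx'W₁, s₁, hs₁⟩ := isInvertible_iff.mp hM' x'
  have hx'W : x' ∈ W₁ ⊓ φ ⁻¹ᵁ W := ⟨hx'W₁, by change φ x' ∈ W; rw [hx']; exact hxW⟩
  obtain ⟨s', hs'⟩ := exists_isGen_of_restrict_iso (φ ⁻¹ᵁ V) e₃ _
    (hs₁.mono (inf_le_left : W₁ ⊓ φ ⁻¹ᵁ W ≤ W₁))
  obtain ⟨W₂, -, hxW₂, s, hs⟩ := exists_gen_near φ hc hX' hW F (hFV.mono inf_le_right) x hxW x' hx'
    inf_le_right hx'W s' hs'
  refine ⟨W₂, hxW₂, ?_⟩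
  have h3 := (isGen_pushforward_iff_of_le V.ι L (W := W₂ ⊓ V) (by
    rw [Scheme.Opens.opensRange_ι]; exact inf_le_right) s).mp hs
  have h4 : V.ι ⁻¹ᵁ W₂ ≤ V.ι ⁻¹ᵁ (W₂ ⊓ V) := fun z hz => ⟨hz, z.2⟩
  exact ⟨_, h3.mono h4⟩

end K247.ExtDesc
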