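import Groth.Agent.S12412
import Groth.Agent.PicF.K247.AbelSurj
import Groth.Agent.PicF.K247.DegFn
import Groth.Agent.AbVar.K530.PicZero

/-!
# `Pic⁰` of a smooth relative curve is the locus of degree zero

`fibZero_iff`: a class on `C_T` is algebraically equivalent to zero on all geometric fibres iff its fibre degree
vanishes identically.
-/

set_option autoImplicit false
universe u
open CategoryTheory CategoryTheory.Limits AlgebraicGeometry Opposite TopologicalSpace

namespace K247.FibDeg

open Groth.Agent Groth.Agent.Grpsch Groth.Agent.Grpsch.PicGrp Groth.Agent.Fga.RigGrp Groth.Agent.Fga.JacSurj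
  Groth.Agent.Picfga.ChiDef K247.DegFn Groth.Agent.Fdesc.LocGen

variable {C S : Scheme.{u}} (f : C ⟶ S)

instance (T : Over S) [IsProper f] : IsProper (PicF.XTproj f T) := inferInstanceAs (IsProper (pullback.snd f T.hom))
instance (T : Over S) [Smooth f] : Smooth (PicF.XTproj f T) := inferInstanceAs (Smooth (pullback.snd f T.hom))
instance (T : Over S) [GeometricallyConnected f] : GeometricallyConnected (PicF.XTproj f T) :=
  inferInstanceAs (GeometricallyConnected (pullback.snd f T.hom))

theorem degAt_of_algTriv [IsProper f] [Smooth f] [GeometricallyConnected f]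
    (hdim : ∀ s : S, topologicalKrullDim ↥(f.fiber s) = 1) (T : Over S) (t : T.left)
    {L : (PicF.XT f T).Modules} (hL : PicF.IsInvertible L)
    (h0 : AbDual.IsAlgTrivialAt (PicF.XTproj f T) L t) : degAt f T t (mk L hL) = 0 := by
  rw [degAt_mk f T t hL, S12412.result f hdim T L hL t h0, sub_self]

/-- Over a geometric point a module of degree zero is algebraically equivalent to zero. -/
theorem algTriv_of_degAt [IsProper f] [Smooth f] [GeometricallyConnected f]
    (hdim : ∀ s : S, topologicalKrullDim ↥(f.fiber s) = 1) (T : Over S) (t : T.left)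
    {L : (PicF.XT f T).Modules} (hL : PicF.IsInvertible L) (h : degAt f T t (mk L hL) = 0) :
    AbDual.IsAlgTrivialAt (PicF.XTproj f T) L t := by
  intro Ω _ _ σ hσ
  have hb : σ (IsLocalRing.closedPoint Ω) = t := by
    have : σ (IsLocalRing.closedPoint Ω) ∈ ({t} : Set T.left) := by
      rw [← hσ]; exact ⟨_, rfl⟩
    exact this
  let p := PicF.XTproj f T
  have hL' : PicF.IsInvertible ((Scheme.Modules.pullback (pullback.fst p σ)).obj L) :=
    isInvertible_pullback _ hL
  have hd : topologicalKrullDim ↑(pullback p σ) = 1 := by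
    rw [Flat2G.ProperDim.topologicalKrullDim_field_point p (Field.toIsField Ω) (pullback.snd p σ)
      (pullback.fst p σ) σ (IsPullback.of_hasPullback p σ) (IsLocalRing.closedPoint Ω)]
    exact dim_fiber f hdim T _
  let _ : (pullback p σ).Over (Spec (CommRingCat.of Ω)) := ⟨pullback.snd p σ⟩
  have h1 : IsProper ((pullback p σ) ↘ Spec (CommRingCat.of Ω)) :=
    inferInstanceAs (IsProper (pullback.snd p σ))
  have h2 : Smooth ((pullback p σ) ↘ Spec (CommRingCat.of Ω)) :=
    inferInstanceAs (Smooth (pullback.snd p σ))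
  have h3 : ConnectedSpace ↑(pullback p σ) :=
    GeometricallyConnected.geometrically_connectedSpace (f := p) _ _ _ (.of_hasPullback _ _)
  rw [Pic13.H138.AlgEquiv.isAlgEquivZero_iff hL']
  refine AbelSurj.algEq hd hL' ?_
  have e1 := Pic13.H167.ChiGeom.eulerChar_eq_geom p L (Ega2.QCohLocal.isQCoh_of_isInvertible hL) σ 1 hd.le
  have e2 := Pic13.H167.ChiGeom.eulerChar_eq_geom p (Coh.structureModule _)
    (Ega2.QCohLocal.isQCoh_of_isInvertible isInvertible_structureModule) σ 1 hd.le
  have e3 : @FGA.eulerCharLE Ω _ (pullback p σ) ⟨pullback.snd p σ⟩ (Coh.structureModule _) 1 =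
      @FGA.eulerCharLE Ω _ (pullback p σ) ⟨pullback.snd p σ⟩
        ((Scheme.Modules.pullback (pullback.fst p σ)).obj (Coh.structureModule _)) 1 :=
    Fga.EulerIso.eulerCharLE_congr (X := pullback p σ) Ω (@asIso _ _ _ _ _
      (Grpsch.PicGrp.isIso_pullOne (pullback.fst p σ))) 1
  rw [hb] at e1 e2
  have e4 : PerfAux.eulerChar p L t = PerfAux.eulerChar p (Coh.structureModule _) t := by
    have h4 := chiAt_eq_eulerChar f hdim T t hL
    have h5 := chiAt_eq_eulerChar f hdim T t (isInvertible_structureModule (X := PicF.XT f T))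
    rw [← h4, ← h5]
    exact sub_eq_zero.1 h
  change @FGA.eulerCharLE Ω _ (pullback p σ) ⟨pullback.snd p σ⟩ _ 1 -
    @FGA.eulerCharLE Ω _ (pullback p σ) ⟨pullback.snd p σ⟩ (Coh.structureModule _) 1 = 0
  rw [e3, ← e1, ← e2, e4, sub_self]

/-- `Pic⁰` classes are the classes of fibre degree zero. -/
theorem fibZero_iff [IsProper f] [Smooth f] [GeometricallyConnected f]
    (hdim : ∀ s : S, topologicalKrullDim ↥(f.fiber s) = 1) (T : Over S) (c : Pic (PicF.XT f T)) :
    K530.PicZero.FibZero (PicF.XTproj f T) c ↔ ∀ t : T.left, degAt f T t c = 0 := by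
  obtain ⟨L, hL, rfl⟩ := exists_mk c
  rw [← K530.PicZero.isAlgTrivialAt_iff _ hL]
  exact ⟨fun h t => degAt_of_algTriv f hdim T t hL (h t), fun h t => algTriv_of_degAt f hdim T t hL (h t)⟩

end K247.FibDeg
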