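import Groth.Agent.Pic13.H964.FpqcLine
import Mathlib.Algebra.CharP.Lemmas

/-!
# A line bundle of order `p` in characteristic `p` which becomes trivial on a flat cover `X' ⟶ X` with reduced
`X' ×_X X'`

`nonempty_iso_of_pullback`: if `M^{⊗p} ≅ O_X`, `f^*M ≅ O_{X'}`, `p = 0` on `X`, every unit of `Γ(X', O)` has a `p`-th
root and `X' ×_X X'` is reduced then `M ≅ O_X`.
-/

set_option autoImplicit false
universe u

open CategoryTheory CategoryTheory.Limits AlgebraicGeometry TopologicalSpace Opposite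

namespace K247.MuDesc

open Groth.Agent.Fdesc Groth.Agent.Fdesc.LocGen Groth.Agent.Picfga.LineFam Groth.Agent.Picfga.LineHom
  Groth.Agent.Picfga.LineDescent Groth.Agent.Pic13.H964 Groth.Agent.Pic13.H964.FpqcLine

/-- In a reduced ring with `p = 0`, `p`-th powers are injective. -/
lemma eq_of_pow_eq {R : Type*} [CommRing R] [_root_.IsReduced R] {p : ℕ} (hp : p.Prime) (h0 : (p : R) = 0) {x y : R}
    (h : x ^ p = y ^ p) : x = y := by
  have h1 := add_pow_prime_eq hp (x - y) y
  rw [sub_add_cancel, h, h0, zero_mul, zero_mul, zero_mul, add_zero] at h1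
  have h2 : (x - y) ^ p = 0 := by
    have h3 : (x - y) ^ p + y ^ p = 0 + y ^ p := by rw [zero_add]; exact h1.symm
    exact add_right_cancel h3
  exact sub_eq_zero.mp (eq_zero_of_pow_eq_zero h2)

variable {X X' X'' : Scheme.{u}} {f : X' ⟶ X} {p₁ p₂ : X'' ⟶ X'}

theorem nonempty_iso_of_pullback (H : IsPullback p₁ p₂ f f) [Flat f] [Surjective f] [IsAffineHom f] [IsReduced X'']
    {p : ℕ} (hp : p.Prime) (h0 : (p : Γ(X, ⊤)) = 0)
    (hroot : ∀ u : Γ(X', ⊤), IsUnit u → ∃ v : Γ(X', ⊤), v ^ p = u) {M : X.Modules} (hM : PicF.IsInvertible M)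
    (hMp : Nonempty (CohB1.tensorPow M p ≅ Coh.structureModule X))
    (hf : Nonempty ((Scheme.Modules.pullback f).obj M ≅ Coh.structureModule X')) :
    Nonempty (M ≅ Coh.structureModule X) := by
  obtain ⟨ψ⟩ := hMp
  obtain ⟨τ⟩ := hf
  obtain ⟨U, e, hU, he⟩ := Fam.exists_gens hM
  let F : Fam f M (Coh.structureModule X') := Fam.ofIso τ
  -- the two families on `M^{⊗ p}`
  let F₁ : Fam f (CohB1.tensorPow M p) (Coh.structureModule X') :=
    { map := fun {V} s => (Fam.can f).map (ψ.hom.app V s)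
      smul := fun {V} a s => by rw [Scheme.Modules.Hom.app_smul, Fam.smul]
      res := fun {V W} h s => by rw [app_res, Fam.res]
      gen := fun {V e} he => (Fam.can f).gen (he.app ψ.hom) }
  -- values of `F` on local generators
  let a : ∀ x : X, Γ(X', f ⁻¹ᵁ U x) := fun x => ofFun.symm (F.map (e x))
  have ha : ∀ x, F.map (e x) = ofFun (a x) := fun x => (ofFun.apply_symm_apply _).symm
  have hau : ∀ x, IsUnit (a x) := fun x => by
    have h1 := F.gen (he x)
    rw [ha, ofFun_eq_smul] at h1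
    exact (isGen_one _).isUnit_of_smul h1
  let c : ∀ x : X, Γ(X, U x) := fun x => ofFun.symm (ψ.hom.app (U x) (pow (e x) p))
  have hc : ∀ x, ψ.hom.app (U x) (pow (e x) p) = ofFun (c x) := fun x => (ofFun.apply_symm_apply _).symm
  have hpg : ∀ x, IsGen (pow (e x) p) := fun x => (he x).pow p
  obtain ⟨F₂, hF₂⟩ : ∃ F₂ : Fam f (CohB1.tensorPow M p) (Coh.structureModule X'),
      ∀ x, F₂.map (pow (e x) p) = ofFun (a x ^ p) := by
    refine Fam.exists_of_gens hU hpg (fun x => ofFun (a x ^ p)) (fun x => ?_) (fun x y => ?_)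
    · rw [ofFun_eq_smul]
      exact (isGen_one _).unit_smul ((hau x).pow p)
    · obtain ⟨r, hr⟩ := ((he y).res (inf_le_right : U x ⊓ U y ≤ U y)).exists_eq
        (res M (inf_le_left : U x ⊓ U y ≤ U x) (e x))
      refine ⟨r ^ p, ?_, ?_⟩
      · rw [res_pow, res_pow, hr, LocGen.smul_pow]
      · have h1 := congrArg F.map hr
        rw [F.smul, F.res, F.res, ha, ha, res_ofFun, res_ofFun, ofFun_eq_smul, ofFun_eq_smul, smul_smul] at h1
        have h2 := (isGen_one _).ext h1
        have h3 : ores (f.preimage_mono inf_le_left) (a x ^ p) =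
            f.app (U x ⊓ U y) (r ^ p) * ores (f.preimage_mono inf_le_right) (a y ^ p) := by
          rw [map_pow, map_pow, map_pow, h2, mul_pow]
        rw [res_ofFun, res_ofFun, h3, ofFun_eq_smul, ofFun_eq_smul, smul_smul]
  obtain ⟨w, hw, hwF⟩ := Fam.exists_unit (isInvertible_tensorPow hM p) F₁ F₂
  have hac : ∀ x, a x ^ p = ores le_top w * f.app (U x) (c x) := fun x => by
    have h1 := hF₂ x
    rw [hwF, Fam.smulUnit_map] at h1
    change _ • (Fam.can f).map (ψ.hom.app (U x) (pow (e x) p)) = _ at h1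
    rw [hc, Fam.can_map, AddEquiv.symm_apply_apply, ofFun_eq_smul, ofFun_eq_smul, smul_smul] at h1
    exact ((isGen_one _).ext h1).symm
  obtain ⟨z, hz⟩ := hroot w hw
  have hzu : IsUnit z := (isUnit_pow_iff hp.ne_zero).mp (by rw [hz]; exact hw)
  obtain ⟨z', hz'⟩ := hzu.exists_left_inv
  have hz'u : IsUnit z' := IsUnit.of_mul_eq_one _ hz'
  let F' := Fam.smulUnit hz'u F
  let b : ∀ x : X, Γ(X', f ⁻¹ᵁ U x) := fun x => ores le_top z' * a x
  have hF'b : ∀ x, F'.map (e x) = ofFun (b x) := fun x => by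
    rw [Fam.smulUnit_map, ha, ofFun_eq_smul, smul_smul, ofFun_eq_smul]
  have hb : ∀ x, b x ^ p = f.app (U x) (c x) := fun x => by
    have h1 : z' ^ p * w = 1 := by rw [← hz, ← mul_pow, hz', one_pow]
    have h2 := congrArg (ores (le_top : f ⁻¹ᵁ U x ≤ ⊤)) h1
    rw [map_mul, map_pow, map_one] at h2
    change (ores le_top z' * a x) ^ p = _
    rw [mul_pow, hac, ← mul_assoc, h2, one_mul]
  -- the two pullbacks of `b` agree
  have key : ∀ x, fn p₁ (le_refl (p₁ ⁻¹ᵁ f ⁻¹ᵁ U x)) (b x) = fn p₂ (le12 H.w (U x)) (b x) := fun x => by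
    refine eq_of_pow_eq hp ?_ ?_
    · have h1 := congrArg ((fn p₁ (le_refl (p₁ ⁻¹ᵁ f ⁻¹ᵁ U x))).comp
        (fn f (U := ⊤) (N := f ⁻¹ᵁ U x) (fun _ _ => trivial))) h0
      rwa [map_natCast, map_zero] at h1
    · rw [← map_pow, ← map_pow, hb]
      have h1 : f.app (U x) (c x) = fn f (le_refl _) (c x) := by rw [fn_apply, ores_refl]
      rw [h1, fn_comp, fn_comp, fn_congr H.w]
  have hF : F'.comp (Fam.can p₁) = (F'.comp (Fam.can p₂)).cast H.w.symm := by
    refine Fam.ext_of_gens hU he fun x => ?_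
    have h1 := key x
    rw [fn_apply, fn_apply, ores_refl] at h1
    change (Fam.can p₁).map (F'.map (e x)) = res _ _ ((Fam.can p₂).map (F'.map (e x)))
    rw [hF'b]
    change ofFun (p₁.app _ (b x)) = ofFun (ores _ (p₂.app _ (b x)))
    exact congrArg ofFun h1
  obtain ⟨m, hm, -⟩ := exists_section H hM F' hF (U := ⊤) (one (f ⁻¹ᵁ ⊤)) (isGen_one _) (by
    change (Fam.can p₁).map _ = res _ _ ((Fam.can p₂).map _)
    rw [Fam.can_map, Fam.can_map, res_ofFun]
    congr 1
    have h1 : (ofFun (X := X') (U := f ⁻¹ᵁ ⊤)).symm (one (f ⁻¹ᵁ ⊤)) = 1 := rfl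
    rw [h1, map_one, map_one, map_one])
  have : IsIso (homOf m) := by
    rw [isIso_iff_isGen, sec_homOf, res_refl]
    exact hm
  exact ⟨(asIso (homOf m)).symm⟩

end K247.MuDesc
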