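import Groth.Agent.Dix.Cast5
import Groth.Agent.Fga.JacFactor
import Groth.Agent.Ega2.AmpleGlobGen
import Groth.Agent.Models.H38.SecDiv
import Groth.Agent.S1572
import Groth.Agent.Ega3B.PicTwist

/-!
# The Picard group of a locally factorial scheme is generated by effective Cartier divisors
-/

set_option autoImplicit false
universe u
open CategoryTheory CategoryTheory.Limits AlgebraicGeometry Opposite TopologicalSpace

namespace K247.PicGen

open Groth.Agent Groth.Agent.Fdesc.LocGen Groth.Agent.Grpsch.PicGrp Groth.Agent.Dix.IdealModCartier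
  Groth.Agent.Divis.EffCartier Groth.Agent.Fga.JacFactor

variable {Y : Scheme.{u}}

/-- On an integral scheme, a section of an invertible module which generates over a non-empty open is regular. -/
theorem regular_of_isGen [IsIntegral Y] {M : Y.Modules} (t : Γ(M, ⊤)) {U : Y.Opens} (hU : genericPoint Y ∈ U)
    (ht : IsGen (res M (le_top : U ≤ ⊤) t)) (V : Y.affineOpens) (e : Γ(M, V.1)) (a : Γ(Y, V.1))
    (h : res M le_top t = a • e) : a ∈ nonZeroDivisors Γ(Y, V.1) := by
  by_cases hV : (V.1 : Set Y).Nonempty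
  · have hη : genericPoint Y ∈ V.1 := (genericPoint_spec Y).mem_open_set_iff V.1.2 |>.2 (by simpa using hV)
    have : Nonempty V.1 := ⟨⟨_, hη⟩⟩
    have : IsDomain Γ(Y, V.1) := inferInstance
    refine mem_nonZeroDivisors_of_ne_zero fun ha => ?_
    subst ha
    rw [zero_smul] at h
    have h1 : res M (inf_le_left : U ⊓ V.1 ≤ U) (res M (le_top : U ≤ ⊤) t) = 0 := by
      rw [res_res]
      have := congrArg (res M (inf_le_right : U ⊓ V.1 ≤ V.1)) h
      rw [res_res, map_zero] at this
      exact this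
    have h2 := ht (U ⊓ V.1) inf_le_left
    have h3 : (1 : Γ(Y, U ⊓ V.1)) = 0 := by
      apply h2.1
      simp only [one_smul, zero_smul]
      exact h1
    have : Nonempty (U ⊓ V.1 : Y.Opens) := ⟨⟨genericPoint Y, hU, hη⟩⟩
    exact one_ne_zero h3
  · have : V.1 = ⊥ := by
      ext x
      simp only [Opens.coe_bot, Set.mem_empty_iff_false, iff_false]
      exact fun hx => hV ⟨x, hx⟩
    have : Subsingleton Γ(Y, V.1) := by
      rw [this]
      infer_instance
    rw [Subsingleton.elim a 1]
    exact one_mem _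

/-- Every class on an integral noetherian separated locally factorial scheme is the difference of two classes of
effective Cartier divisors. -/
theorem exists_eff [IsIntegral Y] [IsNoetherian Y] [Y.IsSeparated]
    (hufd : ∀ y : Y, UniqueFactorizationMonoid (Y.presheaf.stalk y)) (c : Pic Y) :
    ∃ (I₁ I₂ : Y.IdealSheafData) (h₁ : BlowUp.IsEffCartierIdeal I₁) (h₂ : BlowUp.IsEffCartierIdeal I₂),
      c = dcl I₁ h₁ * (dcl I₂ h₂)⁻¹ := by
  obtain ⟨L, hL, rfl⟩ := exists_mk c
  obtain ⟨V, e, hηV, he⟩ := (isInvertible_iff L).1 hL (genericPoint Y)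
  obtain ⟨W, hηW, hWV⟩ := exists_affine_mem_le V (genericPoint Y) hηV
  have hdense : Dense (W.1 : Set Y) := W.1.2.dense ⟨_, hηW⟩
  obtain ⟨D, hD, hsupp⟩ := Groth.Agent.S1572.result Y W.1 W.2 hdense (fun x _ => ⟨inferInstance, hufd x⟩)
  have hker : D.subschemeι.ker = D := Scheme.IdealSheafData.ker_subschemeι D
  have hD' : BlowUp.IsEffCartierIdeal D.subschemeι.ker := by rw [hker]; exact hD
  obtain ⟨s, hs⟩ := Dix.Cast5.exists_section D.subschemeι hD'
  let N : Y.Modules := dual (ClSub.idealMod D.subschemeι.ker)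
  have hN : PicF.IsInvertible N := isInvertible_dual (isInvertible_idealMod hD')
  have hgen : CohB1.genLocus N s = W.1 := by
    ext x
    have h1 : (x ∈ (CohB1.genLocus N s : Set Y)) ↔ x ∈ (Set.range D.subschemeι)ᶜ := by rw [hs]
    rw [D.range_subschemeι, hsupp, compl_compl] at h1
    exact h1
  let t₀ : Γ(L, CohB1.genLocus N s) := res L (hgen.le.trans hWV) e
  obtain ⟨n, hn⟩ := Ega2.AmpleGlobGen.exists_extend_top (Ega3B.PicTwist.isCoh_of_isInvertible hL).1 hN s t₀
  obtain ⟨t, ht⟩ := hn n le_rfl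
  let M : Y.Modules := CohB1.tensorMod L (CohB1.tensorPow N n)
  have hM : PicF.IsInvertible M := isInvertible_tensorMod hL (isInvertible_tensorPow hN n)
  have hgt : IsGen (res M (le_top : CohB1.genLocus N s ≤ ⊤) t) := by
    rw [ht]
    exact (he.res _).tmul ((isGen_sec_genLocus s).pow n)
  obtain ⟨E, hE, hinv, -⟩ := Models.H38.SecDiv.exists_divisor hM t (fun U e' a _ h =>
    regular_of_isGen t (by rw [hgen]; exact hηW) hgt U e' a h)
  have h1 : mk M hM * dcl E hE = 1 := by
    rw [dcl, mk_mul_mk, mk_eq_one_iff]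
    exact hinv
  have h2 : mk M hM = mk L hL * mk N hN ^ n := by
    rw [← mk_tensorPow hN n, mk_mul_mk]
  have h3 : mk N hN = (dcl _ hD')⁻¹ := rfl
  obtain ⟨hP, hP'⟩ := dcl_prod (fun _ : Fin n => D.subschemeι.ker) (fun _ => hD')
  refine ⟨_, E, hP, hE, ?_⟩
  rw [hP', Finset.prod_const, Finset.card_univ, Fintype.card_fin]
  rw [h2, h3, inv_pow] at h1
  rw [eq_mul_inv_iff_mul_eq]
  have h4 : mk L hL * dcl E hE = dcl _ hD' ^ n * (mk L hL * (dcl _ hD' ^ n)⁻¹ * dcl E hE) := by
    rw [mul_comm (mk L hL) (_)⁻¹, ← mul_assoc, ← mul_assoc, mul_inv_cancel, one_mul]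
  rw [h4, h1, mul_one]

end K247.PicGen
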