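import Groth.Agent.PicF.K247.SmoothPic
import Groth.Agent.PicF.K247.RigZero

/-!
# Smoothness of the scheme representing `Pic⁰` of a smooth relative curve
-/

set_option autoImplicit false
universe u
open CategoryTheory CategoryTheory.Limits AlgebraicGeometry Opposite TopologicalSpace

namespace K247.SmoothZero

open Groth.Agent Groth.Agent.Grpsch.PicGrp Groth.Agent.Fga.RigGrp K247.DegFn K247.FibDeg K530.PicZero

variable {C S : Scheme.{u}} {f : C ⟶ S} [IsProper f] [Smooth f] [GeometricallyConnected f]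
  {P₀ : Over S} {φ₀ : ∀ T : Over S, PicF.Cl (PicF.XT f T) → (T ⟶ P₀)}

/-- Smoothness in the presence of a section. -/
theorem smooth_of_section (hdim : ∀ s : S, topologicalKrullDim ↥(f.fiber s) = 1)
    (σ : S ⟶ C) (hσ : σ ≫ f = 𝟙 S)
    (hP₀ : AbDual.IsRelPicZeroK Scheme.fppfPrecoverage f P₀ φ₀) [LocallyOfFinitePresentation P₀.hom] :
    Smooth P₀.hom := by
  rw [S1488.result]
  refine ⟨inferInstance, ?_⟩
  intro A _ I hI w a haw
  let q : CommRingCat.of A ⟶ CommRingCat.of (A ⧸ I) := CommRingCat.ofHom (Ideal.Quotient.mk I)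
  let i : Over.mk (Spec.map q ≫ a) ⟶ Over.mk a := Over.homMk (Spec.map q) rfl
  let w' : Over.mk (Spec.map q ≫ a) ⟶ P₀ := Over.homMk w haw.symm
  obtain ⟨c₀, -, hz₀, hc₀⟩ := K247.RigZero.exists_rig hdim σ hσ hP₀ (Over.mk (Spec.map q ≫ a)) w'
  have hq2 : RingHom.ker q.hom ^ 2 = ⊥ := by
    have : RingHom.ker q.hom = I := Ideal.mk_ker
    rw [this, hI]
  obtain ⟨d, hd⟩ := K247.SmoothPic.exists_lift_class (fun s => (hdim s).le) q Ideal.Quotient.mk_surjective
    (Sga7.H780.PicSm.ker_sq q hq2) a i rfl c₀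
  have hdz : FibZero (PicF.XTproj f (Over.mk a)) d := by
    rw [fibZero_iff f hdim]
    intro t
    have hle : I ≤ nilradical A := fun x hx => by
      have h1 : x ^ 2 ∈ I ^ 2 := Ideal.pow_mem_pow hx 2
      rw [hI] at h1
      exact ⟨2, h1⟩
    obtain ⟨t', rfl⟩ : ∃ t' : (Over.mk (Spec.map q ≫ a)).left, i.left t' = t :=
      (PrimeSpectrum.comap_quotientMk_bijective_of_le_nilradical hle).2 t
    rw [← degAt_pull f i t' d, hd]
    exact (fibZero_iff f hdim _ _).1 hz₀ t'
  have h1 : i ≫ φ₀ (Over.mk a) (toCl d) = w' := by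
    rw [← hP₀.natural _ _ _ _ ((isPicZeroCl_toCl_iff f _ _).2 hdz), ← toCl_pull, hd, hc₀]
  exact ⟨(φ₀ (Over.mk a) (toCl d)).left, congrArg CommaMorphism.left h1, Over.w _⟩

/-- `P₀ → S` is smooth. -/
theorem smooth (hdim : ∀ s : S, topologicalKrullDim ↥(f.fiber s) = 1)
    (hP₀ : AbDual.IsRelPicZeroK Scheme.fppfPrecoverage f P₀ φ₀) [LocallyOfFinitePresentation P₀.hom] :
    Smooth P₀.hom := by
  have hs : Surjective f := by
    constructor
    intro y
    have h1 : ConnectedSpace (f.fiber y) :=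
      GeometricallyConnected.geometrically_connectedSpace (f := f) _ _ _ (.of_hasPullback _ _)
    obtain ⟨z⟩ := (inferInstance : Nonempty (f.fiber y))
    exact ⟨f.fiberι y z, by
      have := Scheme.Hom.range_fiberι f y
      have h2 : f.fiberι y z ∈ Set.range (f.fiberι y) := ⟨z, rfl⟩
      rw [this] at h2
      exact h2⟩
  refine K247.SmoothPic.smooth_descend P₀.hom f ?_
  have h2 : LocallyOfFinitePresentation (K247.BC.bcP f P₀).hom :=
    inferInstanceAs (LocallyOfFinitePresentation (pullback.snd P₀.hom f))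
  exact smooth_of_section (f := pullback.snd f f) (P₀ := K247.BC.bcP f P₀)
    (fun s => (Flat2G.ProperDim.topologicalKrullDim_fiber_baseChange f (pullback.snd f f) (pullback.fst f f) f
      (IsPullback.of_hasPullback f f) s).trans (hdim _)) (pullback.diagonal f)
    (pullback.diagonal_snd f) (K247.BC.isRelPicZeroK f f hP₀)

end K247.SmoothZero
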